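import Cfsg.Agent.Omega.NO3b.FPB.Claim

/-!
# THEOREM FPB: `Bk` depends only on `bau S`
-/

set_option autoImplicit false

namespace Cfsg.Agent.Omega.NO3b.FPB.Move

open Subgroup Cfsg Cfsg.Agent.ZN Cfsg.Agent.ZN.ChoiceBase
open Cfsg.Agent.Omega.SQ1.BauK.InK (QL mem_QL not_QL)
open Cfsg.Agent.Omega.NO3b.FPB.Base

universe u

variable {G : Type u} [Group G] {S T Y L V : Subgroup G}

theorem AA_bau [Finite G] (S : Subgroup G) : AA (bau S) = AA S := by
  ext A
  constructor
  · intro hA
    rw [mem_AA_iff] at hA ⊢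
    exact ⟨hA.1, hA.2.1.trans (bau_le S), by rw [← mm_bau]; exact hA.2.2⟩
  · intro hA
    have h1 := (le_jj hA).trans (jj_le_bau S)
    rw [mem_AA_iff] at hA ⊢
    exact ⟨hA.1, h1, by rw [mm_bau]; exact hA.2.2⟩

theorem AA_eq [Finite G] (h : bau T = bau S) : AA T = AA S := by
  rw [← AA_bau T, ← AA_bau S, h]

theorem zj_eq [Finite G] (h : bau T = bau S) : zj T = zj S := by
  rw [← zj_bau T, ← zj_bau S, h]

/-- `Bk` depends only on `bau S`. -/
theorem Bk.of_bau [Finite G] (k : Bk T Y L V) (h : bau T = bau S) : Bk S Y L V := by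
  have hz := zj_eq h
  have hA := AA_eq h
  have hQ : QL T V = QL S V := by unfold QL; rw [h]
  have hl : ln T V = ln S V := by unfold ln; rw [hz]
  exact
    { BL := h ▸ k.BL
      LY := k.LY
      LV := k.LV
      LP := hQ ▸ k.LP
      VY := k.VY
      quad := by rw [← h, ← hz]; exact k.quad
      cent := by rw [← h, ← hQ, ← hz]; exact k.cent
      card := by rw [← h, ← hQ, ← hl]; exact k.card
      off := by rw [← hA, ← hQ]; exact k.off
      gen := by rw [← h, ← hl]; exact k.gen
      split := by rw [← hz, ← hl]; exact k.split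
      mv := by rw [← h, ← hQ, ← hl]; exact k.mv
      faith := by rw [← h]; exact k.faith
      ne := by rw [← hl]; exact k.ne }

end Cfsg.Agent.Omega.NO3b.FPB.Move
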