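import Cfsg.Agent.Omega.NO3b.FPB.Base
import Cfsg.Agent.Omega.NO3b.FPB.Main
import Cfsg.Agent.Omega.LemmaK.OfInK

/-!
# THEOREM FPB, bridge from the natural blocks (`SQ1.BauK.BlkK`)

`h : InK H T Q V V0 N A q`, `k : BlkK H T V N i L`, `V0` arbitrary (nonsplit modules are allowed),
`N0 = [N i, L]`:

* `V0_cent : L ≤ C(V0)`, `cent_eq : C_{N i}(L) = V0`;
* `blk : LemmaK.Main.Blk (bau T) L N0`;
* `bk : Base.Bk T Y L N0` if `N0 ≤ Y`, `L ≤ N(Y)`.
-/

set_option autoImplicit false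
set_option linter.unusedSectionVars false
set_option linter.unusedVariables false

namespace Cfsg.Agent.Omega.NO3b.FPB.OfInK

open Subgroup Cfsg Cfsg.Agent.PLocal.ThompsonJ Cfsg.Agent.ZN Cfsg.Agent.ZN.ChoiceBase
open Cfsg.Agent.Omega.SQ1.Bau (Mv exists_min mem_sup_comm card_sup_comm elem_comm mv_inv)
open Cfsg.Agent.Omega.SQ1.BauK
open Cfsg.Agent.Omega.SQ1.BauK.InK (St VL mem_St QL mem_QL not_QL)
open Cfsg.Agent.Omega.NO3b.FPB.Base
open scoped Pointwise commutatorElement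

universe u

variable {G : Type u} [Group G] [Finite G] {H T Q V V0 L Y : Subgroup G} {ι : Type}
  {N A : ι → Subgroup G} {q : ℕ} {i : ι}

/-- `C_{W/V0}(b) = W1/V0` for `b ∈ B - QL`. -/
theorem cent_mod (k : BlkK H T V N i L) (h : InK H T Q V V0 N A q) {b v : G} (hb : b ∈ bau T)
    (hbQ : b ∉ QL T (N i)) (hv : v ∈ N i) (hbv : b * v * b⁻¹ * v⁻¹ ∈ V0) : v ∈ V1 T V := by
  obtain ⟨l, hl, hm⟩ := k.mv
  have hlS : l ∈ St H (N i) := k.LS h hl
  obtain ⟨a, ha, c, hc, rfl⟩ := (h.pl i).split hlS hm hv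
  have hba : b * a = a * b := h.bau_V1 hb ha.1
  set w := l * c * l⁻¹ with hw
  -- `b w b⁻¹ w⁻¹ ∈ V0`
  have hwN : w ∈ N i := (mem_normalizer_iff.1 hlS.2 c).1 hc.2
  have haN : a ∈ N i := ha.2
  have h1 : b * w * b⁻¹ * w⁻¹ ∈ V0 := by
    have e : b * (a * w) * b⁻¹ * (a * w)⁻¹ = a * (b * w * b⁻¹ * w⁻¹) * a⁻¹ := by
      calc b * (a * w) * b⁻¹ * (a * w)⁻¹ = (b * a) * w * b⁻¹ * w⁻¹ * a⁻¹ := by group
        _ = (a * b) * w * b⁻¹ * w⁻¹ * a⁻¹ := by rw [hba]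
        _ = _ := by group
    rw [e] at hbv
    have h2 := h.V0n a⁻¹ (inv_mem (h.TH (h.QT (h.VQ (h.NV i haN))))) _ hbv
    have e2 : a⁻¹ * (a * (b * w * b⁻¹ * w⁻¹) * a⁻¹) * a⁻¹⁻¹ = b * w * b⁻¹ * w⁻¹ := by group
    rwa [e2] at h2
  -- conjugate by `l⁻¹`
  have hmi : Mv (V1 T V ⊓ N i) l⁻¹ := mv_inv.2 hm
  have hm2 := h.bau_moves (inv_mem hlS) hmi hb hbQ
  set m := l⁻¹ * b * l⁻¹⁻¹ with hmdef
  have hmL : m ∈ L := mul_mem (mul_mem (inv_mem hl) (k.BL hb)) (inv_mem (inv_mem hl))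
  have h3 : m * c * m⁻¹ ∈ V1 T V ⊓ N i := by
    have h4 := h.V0n l⁻¹ (inv_mem (k.LH h hl)) _ h1
    have e : l⁻¹ * (b * w * b⁻¹ * w⁻¹) * l⁻¹⁻¹ * c = m * c * m⁻¹ := by
      rw [hw, hmdef]; group
    rw [← e]
    exact mul_mem (h.V0V1 i h4) hc
  have h4 := (h.pl i).opp m (k.LS h hmL) hm2 c hc h3
  have h5 := h.V0n m⁻¹ (inv_mem (k.LH h hmL)) _ h4
  have e : m⁻¹ * (m * c * m⁻¹) * m⁻¹⁻¹ = c := by group
  rw [e] at h5
  have h6 := h.V0n l (k.LH h hl) _ h5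
  exact mul_mem ha.1 (h.V0V1 i h6).1

/-- `L = ⟨B^L⟩`. -/
theorem gen (k : BlkK H T V N i L) (h : InK H T Q V V0 N A q) :
    L ≤ ⨆ x : L, cj (x : G) (bau T) := by
  have hle : (⨆ x : L, cj (x : G) (bau T)) ≤ L := iSup_le fun x =>
    LemmaK.Main.cj_le_of_mem k.BL x.2
  refine k.min _ hle ?_ ?_
  · have h1 : cj ((1 : L) : G) (bau T) ≤ ⨆ x : L, cj (x : G) (bau T) :=
      le_iSup (fun x : L => cj (x : G) (bau T)) 1
    intro b hb
    exact h1 ⟨b, hb, by simp⟩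
  · obtain ⟨l, hl, hm⟩ := k.mv
    obtain ⟨a, ha, -, hne⟩ := h.A_exists i
    have haJ := le_jj (h.AT i) ha
    refine ⟨l * a * l⁻¹, ?_, h.moves_jj (k.LS h hl) hm haJ hne⟩
    have h1 : cj l (bau T) ≤ ⨆ x : L, cj (x : G) (bau T) :=
      le_iSup (fun x : L => cj (x : G) (bau T)) ⟨l, hl⟩
    exact h1 ⟨a, ChoiceBase.jj_le_bau T haJ, rfl⟩

theorem V0_cent (k : BlkK H T V N i L) (h : InK H T Q V V0 N A q) :
    L ≤ centralizer (V0 : Set G) := by
  refine (gen k h).trans (iSup_le fun x => ?_)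
  rintro _ ⟨b, hb, rfl⟩
  rw [mem_centralizer_iff]
  intro v hv
  have hv' := h.V0n _ (inv_mem (k.LH h x.2)) v hv
  rw [inv_inv] at hv'
  have h1 : b * ((x : G)⁻¹ * v * x) = ((x : G)⁻¹ * v * x) * b := h.bau_V1 hb (h.V0V1 i hv').1
  show v * ((x : G) * b * (x : G)⁻¹) = (x : G) * b * (x : G)⁻¹ * v
  calc v * ((x : G) * b * (x : G)⁻¹) = x * (((x : G)⁻¹ * v * x) * b) * (x : G)⁻¹ := by group
    _ = x * (b * ((x : G)⁻¹ * v * x)) * (x : G)⁻¹ := by rw [h1]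
    _ = _ := by group

theorem V0_comm (k : BlkK H T V N i L) (h : InK H T Q V V0 N A q) {l v : G} (hl : l ∈ L)
    (hv : v ∈ V0) : l * v = v * l := (mem_centralizer_iff.1 (V0_cent k h hl) v hv).symm

/-- `C_{N i}(L) ≤ V0`. -/
theorem cent_le (k : BlkK H T V N i L) (h : InK H T Q V V0 N A q) {v : G} (hv : v ∈ N i)
    (hc : ∀ l ∈ L, l * v = v * l) : v ∈ V0 := by
  obtain ⟨l, hl, hm⟩ := k.mv
  have hlS : l ∈ St H (N i) := k.LS h hl
  obtain ⟨b, hb, hbQ⟩ := BlkK.exists_b h i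
  have h1 : v ∈ V1 T V ⊓ N i := ⟨h.N_cent hb hbQ hv (hc b (k.BL hb)), hv⟩
  have h2 : l * v * l⁻¹ = v := by rw [hc l hl]; group
  have h3 := (h.pl i).opp l hlS hm v h1 (by rw [h2]; exact h1)
  rwa [h2] at h3

theorem exists_comm (k : BlkK H T V N i L) (h : InK H T Q V V0 N A q) {u w : G} (hu : u ∈ N i)
    (hu1 : u ∉ V1 T V) (hw : w ∈ V1 T V ⊓ N i) :
    ∃ a ∈ A i, ∃ z ∈ V0, a * u * a⁻¹ * u⁻¹ = w * z := by
  classical
  have hAJ : ∀ a ∈ A i, a ∈ jj T := fun a ha => le_jj (h.AT i) ha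
  have hAB : ∀ a ∈ A i, a ∈ bau T := fun a ha => ChoiceBase.jj_le_bau T (hAJ a ha)
  have hW1 : ∀ a ∈ A i, a * u * a⁻¹ * u⁻¹ ∈ V1 T V ⊓ N i := fun a ha => h.quad_i (hAJ a ha) hu
  have hV0n : (V0.subgroupOf (V1 T V ⊓ N i : Subgroup G)).Normal := by
    refine ⟨fun n hn g => ?_⟩
    rw [mem_subgroupOf] at hn ⊢
    exact h.V0n g (h.TH (h.QT (h.VQ g.2.1.1))) n hn
  let φ : ↥(A i) →* ↥(V1 T V ⊓ N i : Subgroup G) := MonoidHom.mk'
    (fun a => ⟨(a : G) * u * (a : G)⁻¹ * u⁻¹, hW1 a a.2⟩) (by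
      intro a b
      apply Subtype.ext
      have h1 := (mem_V1.1 (hW1 b b.2).1).2 a (hAJ a a.2)
      show ((a : G) * b) * u * ((a : G) * b)⁻¹ * u⁻¹ =
        (a : G) * u * (a : G)⁻¹ * u⁻¹ * ((b : G) * u * (b : G)⁻¹ * u⁻¹)
      have e : ((a : G) * b) * u * ((a : G) * b)⁻¹ * u⁻¹ =
          ((a : G) * ((b : G) * u * (b : G)⁻¹ * u⁻¹)) * (u * (a : G)⁻¹ * u⁻¹) := by group
      rw [e, h1]
      have h2 := h.Vcomm _ (h.NV i (hW1 b b.2).2) _ (h.NV i (hW1 a a.2).2)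
      calc (b : G) * u * (b : G)⁻¹ * u⁻¹ * (a : G) * (u * (a : G)⁻¹ * u⁻¹)
          = ((b : G) * u * (b : G)⁻¹ * u⁻¹) * ((a : G) * u * (a : G)⁻¹ * u⁻¹) := by group
        _ = _ := h2)
  let ψ := (QuotientGroup.mk' (V0.subgroupOf (V1 T V ⊓ N i : Subgroup G))).comp φ
  have hψ : ∀ a : ↥(A i), ψ a = 1 ↔ (a : G) * u * (a : G)⁻¹ * u⁻¹ ∈ V0 := by
    intro a
    show QuotientGroup.mk' _ (φ a) = 1 ↔ _
    rw [QuotientGroup.mk'_apply, QuotientGroup.eq_one_iff, mem_subgroupOf]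
    rfl
  have hker : ψ.ker = (A i ⊓ Q).subgroupOf (A i) := by
    ext a
    rw [MonoidHom.mem_ker, mem_subgroupOf, mem_inf, hψ]
    constructor
    · intro h0
      refine ⟨a.2, ?_⟩
      refine h.cT a ((h.AT i).2.1 a.2) fun v hv => ?_
      have h3 : ∀ v ∈ N i, (a : G) * v = v * a := by
        by_contra hc
        push Not at hc
        obtain ⟨v, hv, hne⟩ := hc
        exact hu1 (cent_mod k h (hAB a a.2) (fun h5 => hne ((mem_QL.1 h5).2 v hv)) hu h0)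
      have h4 : (⨆ j, N j) ≤ centralizer ({(a : G)} : Set G) := by
        refine iSup_le fun j w hw => mem_centralizer_iff.2 fun x hx => ?_
        rw [show x = (a : G) from hx]
        by_cases hij : i = j
        · subst hij; exact h3 w hw
        · exact h.Acent i j hij a a.2 w hw
      exact mem_centralizer_iff.1 (h4 (h.Nsup hv)) a rfl
    · rintro ⟨-, haQ⟩
      rw [h.VcQ a haQ u (h.NV i hu)]
      have : u * (a : G) * (a : G)⁻¹ * u⁻¹ = 1 := by group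
      rw [this]
      exact one_mem _
  have h1 : Nat.card (A i) = Nat.card ψ.ker * Nat.card ψ.range := by
    rw [← ψ.ker.card_mul_index, Subgroup.index_ker]
  have h2 : Nat.card ψ.ker = Nat.card ↥(A i ⊓ Q) := by
    rw [hker]
    exact Nat.card_congr (Subgroup.subgroupOfEquivOfLe inf_le_left).toEquiv
  have h3 : Nat.card ψ.range = q := by
    rw [h2, h.Acard i] at h1
    exact (Nat.eq_of_mul_eq_mul_left Nat.card_pos h1).symm
  have h4 : ψ.range = ⊤ := by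
    apply Subgroup.eq_top_of_card_eq
    rw [h3]
    have h5 := Subgroup.card_mul_index (V0.subgroupOf (V1 T V ⊓ N i : Subgroup G))
    rw [h.card0 i, Nat.card_congr (Subgroup.subgroupOfEquivOfLe (h.V0V1 i)).toEquiv] at h5
    exact (Nat.eq_of_mul_eq_mul_left Nat.card_pos h5).symm
  have h5 : QuotientGroup.mk' (V0.subgroupOf (V1 T V ⊓ N i : Subgroup G)) ⟨w, hw⟩ ∈ ψ.range := by
    rw [h4]; trivial
  obtain ⟨a, ha⟩ := h5
  have h6 : (⟨w, hw⟩ : ↥(V1 T V ⊓ N i : Subgroup G))⁻¹ * φ a ∈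
      V0.subgroupOf (V1 T V ⊓ N i : Subgroup G) := by
    rw [← QuotientGroup.eq]
    exact ha.symm
  refine ⟨a, a.2, _, mem_subgroupOf.1 h6, ?_⟩
  show (a : G) * u * (a : G)⁻¹ * u⁻¹ = w * (w⁻¹ * ((a : G) * u * (a : G)⁻¹ * u⁻¹))
  group

/-- `L` is irreducible on `N i / V0`. -/
theorem irr (k : BlkK H T V N i L) (h : InK H T Q V V0 N A q) {U : Subgroup G} (hU : U ≤ N i)
    (h0U : V0 ≤ U) (hn : L ≤ normalizer (U : Set G)) (hne : ¬ U ≤ V0) : N i ≤ U := by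
  obtain ⟨l, hl, hm⟩ := k.mv
  have hlS : l ∈ St H (N i) := k.LS h hl
  have hJL : ∀ a ∈ A i, a ∈ L := fun a ha => k.BL (ChoiceBase.jj_le_bau T (le_jj (h.AT i) ha))
  have h1 : ∃ u ∈ U, u ∉ V1 T V := by
    by_contra hc
    push Not at hc
    apply hne
    intro u hu
    have h2 : u ∈ V1 T V ⊓ N i := ⟨hc u hu, hU hu⟩
    have h3 : l * u * l⁻¹ ∈ U := (mem_normalizer_iff.1 (hn hl) u).1 hu
    have h4 := (h.pl i).opp l hlS hm u h2 ⟨hc _ h3, hU h3⟩
    have h5 := h.V0n l⁻¹ (inv_mem (k.LH h hl)) _ h4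
    have e : l⁻¹ * (l * u * l⁻¹) * l⁻¹⁻¹ = u := by group
    rwa [e] at h5
  obtain ⟨u, hu, hu1⟩ := h1
  have h2 : V1 T V ⊓ N i ≤ U := by
    intro w hw
    obtain ⟨a, ha, z, hz, e⟩ := exists_comm k h (hU hu) hu1 hw
    have h3 : w * z ∈ U := by
      rw [← e]
      exact mul_mem ((mem_normalizer_iff.1 (hn (hJL a ha)) u).1 hu) (inv_mem hu)
    have := mul_mem h3 (inv_mem (h0U hz))
    rwa [mul_inv_cancel_right] at this
  rw [← (h.pl i).sup_conj hlS hm]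
  refine sup_le h2 ?_
  have h3 := cj_mono l h2
  rwa [cj_eq_of_mem_normalizer (hn hl)] at h3

theorem LN (k : BlkK H T V N i L) (h : InK H T Q V V0 N A q) : L ≤ normalizer (N i : Set G) :=
  fun _ hx => (k.LS h hx).2

/-- `N0 = [N i, L]`. -/
def N0 (N : ι → Subgroup G) (i : ι) (L : Subgroup G) : Subgroup G := ⁅N i, L⁆

theorem N0_le (k : BlkK H T V N i L) (h : InK H T Q V V0 N A q) : N0 N i L ≤ N i := by
  rw [N0, commutator_comm, commutator_le]
  intro x hx y hy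
  rw [commutatorElement_def]
  exact mul_mem ((mem_normalizer_iff.1 (LN k h hx) y).1 hy) (inv_mem hy)

theorem mem_N0 {l v : G} (hl : l ∈ L) (hv : v ∈ N i) : l * v * l⁻¹ * v⁻¹ ∈ N0 N i L := by
  rw [N0, commutator_comm, ← commutatorElement_def]
  exact commutator_mem_commutator hl hv

theorem cj_commutator (x : G) (H₁ H₂ : Subgroup G) : cj x ⁅H₁, H₂⁆ = ⁅cj x H₁, cj x H₂⁆ :=
  Subgroup.map_commutator _ _ _

theorem N0_norm (k : BlkK H T V N i L) (h : InK H T Q V V0 N A q) :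
    L ≤ normalizer (N0 N i L : Set G) := by
  intro x hx
  rw [mem_normalizer_iff_cj, N0, cj_commutator, cj_eq_of_mem_normalizer (LN k h hx),
    cj_eq_of_mem_normalizer (Subgroup.le_normalizer hx)]

theorem V0_le_V (k : BlkK H T V N i L) (h : InK H T Q V V0 N A q) : V0 ≤ N i := h.V0N i

theorem sup_norm (k : BlkK H T V N i L) (h : InK H T Q V V0 N A q) {U : Subgroup G}
    (hn : L ≤ normalizer (U : Set G)) : L ≤ normalizer ((U ⊔ V0 : Subgroup G) : Set G) := by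
  intro x hx
  rw [mem_normalizer_iff_cj, cj, Subgroup.map_sup]
  change cj x U ⊔ cj x V0 = _
  rw [cj_eq_of_mem_normalizer (hn hx), cj_eq_of_mem_normalizer]
  exact InK.norm_of_conj (h.V0n x (k.LH h hx))

/-- An element of `B` outside `QL` moves a vector modulo `V0`. -/
theorem faith (k : BlkK H T V N i L) (h : InK H T Q V V0 N A q) :
    ∃ a ∈ A i, ∃ v ∈ N i, a * v * a⁻¹ * v⁻¹ ∉ V0 := by
  obtain ⟨a, ha, -, v, hv, hne⟩ := h.A_exists i
  obtain ⟨w, hw, hw0⟩ := h.faith i a (le_jj (h.AT i) ha) ⟨v, hv, hne⟩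
  exact ⟨a, ha, w, hw, hw0⟩

/-- `N i = N0 V0`. -/
theorem N_eq (k : BlkK H T V N i L) (h : InK H T Q V V0 N A q) : N0 N i L ⊔ V0 = N i := by
  refine le_antisymm (sup_le (N0_le k h) (h.V0N i)) ?_
  refine irr k h (sup_le (N0_le k h) (h.V0N i)) le_sup_right (sup_norm k h (N0_norm k h)) ?_
  intro hle
  obtain ⟨a, ha, v, hv, hne⟩ := faith k h
  exact hne (hle (mem_sup_left (mem_N0 (k.BL (ChoiceBase.jj_le_bau T (le_jj (h.AT i) ha))) hv)))

theorem N_split (k : BlkK H T V N i L) (h : InK H T Q V V0 N A q) {v : G} (hv : v ∈ N i) :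
    ∃ n ∈ N0 N i L, ∃ z ∈ V0, v = n * z := by
  rw [← N_eq k h] at hv
  exact mem_sup_comm (fun a ha b hb => h.Vcomm a (h.NV i (N0_le k h ha)) b (h.NV i (h.V0N i hb))) hv

/-- `[N0, L] = N0`. -/
theorem N0_comm (k : BlkK H T V N i L) (h : InK H T Q V V0 N A q) :
    N0 N i L ≤ ⁅N0 N i L, L⁆ := by
  conv_lhs => rw [N0, commutator_comm]
  rw [commutator_le]
  intro x hx y hy
  obtain ⟨n, hn, z, hz, rfl⟩ := N_split k h hy
  have e : ⁅x, n * z⁆ = ⁅x, n⁆ := by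
    rw [commutatorElement_def, commutatorElement_def]
    exact Claim.comm_drop (V0_comm k h hx hz)
  rw [e, commutator_comm]
  exact commutator_mem_commutator hx hn

theorem V_le_bau (h : InK H T Q V V0 N A q) : V ≤ bau T := by
  intro v hv
  exact mem_bau.2 ⟨h.QT (h.VQ hv), fun z hz => h.VcQ z (h.Z_le_Q hz) v hv⟩

theorem zj_le_zl (L : Subgroup G) : zj T ≤ zl (bau T) L := by
  intro z hz
  rw [← ChoiceBase.zc_bau T] at hz
  have h1 : (zc (bau T)).map (MulAut.conj ((1 : L) : G)).toMonoidHom ≤ zl (bau T) L :=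
    le_iSup (fun x : L => (zc (bau T)).map (MulAut.conj (x : G)).toMonoidHom) 1
  refine h1 ⟨z, hz, ?_⟩
  simp

theorem cj_zl_le {x : G} (hx : x ∈ L) : cj x (zl (bau T) L) ≤ zl (bau T) L := by
  rw [zl]
  change Subgroup.map _ _ ≤ _
  rw [Subgroup.map_iSup]
  refine iSup_le fun g => ?_
  change ChoiceBase.cj x (ChoiceBase.cj (g : G) (zc (bau T))) ≤ _
  rw [cj_cj]
  exact le_iSup (fun g : L => (zc (bau T)).map (MulAut.conj (g : G)).toMonoidHom)
    ⟨x * g, L.mul_mem hx g.2⟩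

/-- `Z_J = W₁ C_{Z_J}(L)`. -/
theorem split (k : BlkK H T V N i L) (h : InK H T Q V V0 N A q) {z : G} (hz : z ∈ zj T) :
    ∃ w ∈ V1 T V ⊓ N i, ∃ c ∈ zj T, (∀ l ∈ L, l * c = c * l) ∧ z = w * c := by
  obtain ⟨l, hl, hm⟩ := k.mv
  have hlS : l ∈ St H (N i) := k.LS h hl
  have hlV : cj l (VL T (N i)) = VL T (N i) :=
    cj_eq_of_mem_normalizer (InK.norm_of_conj (k.VL_norm h l hl))
  have hzV : zj T ≤ VL T (N i) := le_sup_left
  have hzV' : cj l (zj T) ≤ VL T (N i) := by rw [← hlV]; exact cj_mono l hzV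
  set X := zj T ⊓ cj l (zj T) with hX
  have hXL : ∀ x ∈ X, ∀ y ∈ L, y * x = x * y := by
    intro x hx
    obtain ⟨h1, h2⟩ := mem_inf.1 hx
    have h3 : L ≤ centralizer ({x} : Set G) := by
      refine k.gen h hl hm (fun b hb => mem_centralizer_iff.2 fun y hy => ?_) fun b hb =>
        mem_centralizer_iff.2 fun y hy => ?_
      · rw [show y = x from hy]
        exact (mem_bau.1 hb).2 x h1
      · rw [show y = x from hy]
        have h4 := Claim.comm_conj (g := l) ((mem_bau.1 hb).2 _ (mem_cj.1 h2))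
        have e : l * (l⁻¹ * x * l) * l⁻¹ = x := by group
        rwa [e] at h4
    exact fun y hy => (mem_centralizer_iff.1 (h3 hy) x rfl).symm
  -- the orders
  have hVLc : ∀ a ∈ VL T (N i), ∀ b ∈ VL T (N i), a * b = b * a := fun a ha b hb =>
    elem_comm (h.VL_elem i) a ha b hb
  have h1 := card_sup_comm (A := zj T) (B := cj l (zj T)) fun a ha b hb =>
    hVLc a (hzV ha) b (hzV' hb)
  have h2 : Nat.card ↥(zj T ⊔ cj l (zj T)) ≤ Nat.card (zj T) * q := by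
    rw [← h.card_VL i]
    exact Subgroup.card_le_of_le (sup_le hzV hzV')
  rw [← hX, card_cj] at h1
  have h3 : Nat.card (zj T) ≤ q * Nat.card X := by
    have hp : 0 < Nat.card (zj T) := Nat.card_pos
    refine Nat.le_of_mul_le_mul_left ?_ hp
    rw [← h1]
    calc Nat.card ↥(zj T ⊔ cj l (zj T)) * Nat.card X ≤ Nat.card (zj T) * q * Nat.card X :=
          Nat.mul_le_mul_right _ h2
      _ = _ := by ring
  have hNX : N i ⊓ X ≤ V0 := by
    rintro x ⟨hx1, hx2⟩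
    obtain ⟨h4, h5⟩ := mem_inf.1 hx2
    have h6 : x ∈ V1 T V ⊓ N i := by
      rw [← h.Z_inf_N]; exact ⟨h4, hx1⟩
    rw [← (h.pl i).inter hlS hm]
    refine ⟨h6, ?_⟩
    rw [← h.Z_inf_N, cj_inf]
    exact ⟨h5, by rw [cj_eq_of_mem_normalizer hlS.2]; exact hx1⟩
  have h4 := card_sup_comm (A := N i) (B := X) fun a ha b hb =>
    hVLc a (mem_sup_right ha) b (hzV (mem_inf.1 hb).1)
  have h5 : VL T (N i) = N i ⊔ X := by
    symm
    refine Subgroup.eq_of_le_of_card_ge (sup_le le_sup_right (inf_le_left.trans hzV)) ?_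
    rw [h.card_VL i]
    have hp : 0 < Nat.card V0 := Nat.card_pos
    have h6 : Nat.card ↥(N i ⊓ X) ≤ Nat.card V0 := Subgroup.card_le_of_le hNX
    refine Nat.le_of_mul_le_mul_right ?_ hp
    calc Nat.card (zj T) * q * Nat.card V0 ≤ (q * Nat.card X) * q * Nat.card V0 :=
          Nat.mul_le_mul_right _ (Nat.mul_le_mul_right _ h3)
      _ = Nat.card (N i) * Nat.card X := by rw [h.card1 i, h.card0 i]; ring
      _ = Nat.card ↥(N i ⊔ X) * Nat.card ↥(N i ⊓ X) := h4.symm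
      _ ≤ Nat.card ↥(N i ⊔ X) * Nat.card V0 := Nat.mul_le_mul_left _ h6
  have hz' := hzV hz
  rw [h5] at hz'
  obtain ⟨w, hw, x, hx, rfl⟩ := mem_sup_comm (fun a ha b hb =>
    hVLc a (mem_sup_right ha) b (hzV (mem_inf.1 hb).1)) hz'
  refine ⟨w, ?_, x, (mem_inf.1 hx).1, hXL x hx, rfl⟩
  rw [← h.Z_inf_N]
  refine ⟨?_, hw⟩
  have := mul_mem hz (inv_mem (mem_inf.1 hx).1)
  rwa [mul_inv_cancel_right] at this

/-- The module of the block is the commutator `vl B L`. -/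
theorem eq_vl (k : BlkK H T V N i L) (h : InK H T Q V V0 N A q) : vl (bau T) L = N0 N i L := by
  obtain ⟨l, hl, hm⟩ := k.mv
  have hlS : l ∈ St H (N i) := k.LS h hl
  -- `zl B L ≤ N i C(L)`
  let D : Subgroup G := zj T ⊓ centralizer (L : Set G)
  have hDc : ∀ d ∈ D, ∀ y ∈ L, y * d = d * y := fun d hd y hy =>
    mem_centralizer_iff.1 (mem_inf.1 hd).2 y hy
  have hND : ∀ a ∈ N i, ∀ d ∈ D, a * d = d * a := fun a ha d hd =>
    (h.ZcN i d (mem_inf.1 hd).1 a ha).symm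
  have hzl : zl (bau T) L ≤ N i ⊔ D := by
    rw [zl]
    refine iSup_le fun x => ?_
    rintro _ ⟨z, hz, rfl⟩
    have hz' : z ∈ zc (bau T) := hz
    rw [ChoiceBase.zc_bau] at hz'
    obtain ⟨w, hw, c, hc, hcL, rfl⟩ := split k h hz'
    show (x : G) * (w * c) * (x : G)⁻¹ ∈ _
    have e : (x : G) * (w * c) * (x : G)⁻¹ = (x * w * (x : G)⁻¹) * (x * c * (x : G)⁻¹) := by group
    have e2 : (x : G) * c * (x : G)⁻¹ = c := by rw [hcL x x.2]; group
    rw [e, e2]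
    exact mul_mem (mem_sup_left ((mem_normalizer_iff.1 (LN k h x.2) w).1 hw.2))
      (mem_sup_right ⟨hc, mem_centralizer_iff.2 hcL⟩)
  have hNzl : N i ≤ zl (bau T) L := by
    rw [← (h.pl i).sup_conj hlS hm]
    have h1 : V1 T V ⊓ N i ≤ zl (bau T) L := fun v hv => zj_le_zl L (h.V1_le_Z hv.1)
    refine sup_le h1 ((cj_mono l h1).trans (cj_zl_le hl))
  apply le_antisymm
  · rw [vl, commutator_comm, commutator_le]
    intro x hx y hy
    obtain ⟨a, ha, d, hd, rfl⟩ := mem_sup_comm hND (hzl hy)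
    have e : ⁅x, a * d⁆ = x * a * x⁻¹ * a⁻¹ := by
      rw [commutatorElement_def]; exact Claim.comm_drop (hDc d hd x hx)
    rw [e]
    exact mem_N0 hx ha
  · rw [vl, N0]
    exact commutator_mono hNzl le_rfl

/-- A 2-subgroup of `H` over `B` normalises `B`. -/
theorem le_norm_bau (h : InK H T Q V V0 N A q) {R : Subgroup G} (hR : R ≤ H) (h2 : IsPGroup 2 R)
    (hB : bau T ≤ R) : R ≤ normalizer (bau T : Set G) := by
  obtain ⟨S', hS', hle⟩ := ChoiceSit.exists_syl h2 hR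
  obtain ⟨x, -, hx⟩ := ChoiceSit.syl_conj hS' h.syl
  have hk : key R ≤ key T := by
    refine (key_mono hle).trans ?_
    rw [← hx, key_cj]
  obtain ⟨-, -, h3, -⟩ := of_key_le hB hk
  rw [← h3]
  exact Subgroup.le_normalizer.trans (normalizer_le_bau R)

theorem N_le_o2 (k : BlkK H T V N i L) (h : InK H T Q V V0 N A q) : N i ≤ o2 L := by
  have hNp : IsPGroup 2 (N i) := by
    intro x
    refine ⟨1, Subtype.ext ?_⟩
    have := h.Vsq x (h.NV i x.2)
    simpa using this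
  exact le_o2 (((h.NV i).trans (V_le_bau h)).trans k.BL) hNp (LN k h)

/-- `[N i, O₂(L)] ≤ V0`. -/
theorem o2_act (k : BlkK H T V N i L) (h : InK H T Q V V0 N A q) {x v : G} (hx : x ∈ o2 L)
    (hv : v ∈ N i) : v⁻¹ * (x * v * x⁻¹) ∈ V0 := by
  have hoL : ∀ l ∈ L, ∀ x ∈ o2 L, l⁻¹ * x * l ∈ o2 L := fun l hl x hx =>
    Claim.conj_mem_of_norm' (le_normalizer_o2 L) hl hx
  have hV0 : ∀ z ∈ V0, ∀ v ∈ N i, z * v = v * z := fun z hz v hv =>
    h.Vcomm z (h.NV i (h.V0N i hz)) v (h.NV i hv)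
  let U : Subgroup G :=
    { carrier := {v | v ∈ N i ∧ ∀ x ∈ o2 L, v⁻¹ * (x * v * x⁻¹) ∈ V0}
      mul_mem' := by
        rintro a b ⟨ha, ha'⟩ ⟨hb, hb'⟩
        refine ⟨mul_mem ha hb, fun x hx => ?_⟩
        have e : (a * b)⁻¹ * (x * (a * b) * x⁻¹) =
            b⁻¹ * (a⁻¹ * (x * a * x⁻¹)) * (x * b * x⁻¹) := by group
        rw [e, ← hV0 _ (ha' x hx) b⁻¹ (inv_mem hb), mul_assoc]
        exact mul_mem (ha' x hx) (hb' x hx)
      one_mem' := ⟨one_mem _, fun x _ => by simp⟩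
      inv_mem' := by
        rintro a ⟨ha, ha'⟩
        refine ⟨inv_mem ha, fun x hx => ?_⟩
        have e : a⁻¹⁻¹ * (x * a⁻¹ * x⁻¹) = a * (a⁻¹ * (x * a * x⁻¹))⁻¹ * a⁻¹ := by group
        rw [e]
        exact h.V0n a (k.LH h (((h.NV i).trans (V_le_bau h)).trans k.BL ha)) _
          (inv_mem (ha' x hx)) }
  have hUN : U ≤ N i := fun _ hu => hu.1
  have h0U : V0 ≤ U := fun z hz => ⟨h.V0N i hz, fun x hx => by
    have h1 := V0_comm k h (o2_le L hx) hz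
    have e : z⁻¹ * (x * z * x⁻¹) = 1 := by rw [h1]; group
    rw [e]; exact one_mem _⟩
  have hUn : L ≤ normalizer (U : Set G) := by
    intro l hl
    refine InK.norm_of_conj ?_
    rintro v ⟨hv, hv'⟩
    refine ⟨(mem_normalizer_iff.1 (LN k h hl) v).1 hv, fun x hx => ?_⟩
    have e : (l * v * l⁻¹)⁻¹ * (x * (l * v * l⁻¹) * x⁻¹) =
        l * (v⁻¹ * ((l⁻¹ * x * l) * v * (l⁻¹ * x * l)⁻¹)) * l⁻¹ := by group
    rw [e]
    exact h.V0n l (k.LH h hl) _ (hv' _ (hoL l hl x hx))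
  have hne : ¬ U ≤ V0 := by
    obtain ⟨b, hb, hb0, hbx⟩ := Main.exists_fixed_coset (S₁ := o2 L) (B := N i) (P := V0)
      (isPGroup_o2 L) (N_le_o2 k h) ((o2_le L).trans (LN k h))
      (fun x hx => InK.norm_of_conj (h.V0n x (k.LH h (o2_le L hx)))) (h.V0N i) (h.V0_lt i)
    exact fun hle => hb0 (hle ⟨hb, hbx⟩)
  exact (irr k h hUN h0U hUn hne hv).2 x hx

/-- `O₂(L)` centralises `[N i, L]`. -/
theorem o2_cent (k : BlkK H T V N i L) (h : InK H T Q V V0 N A q) :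
    N0 N i L ≤ centralizer (o2 L : Set G) := by
  -- `O₂(L)` normalises `B`
  have hRp : IsPGroup 2 ↥(o2 L ⊔ bau T) := by
    have h2B : IsPGroup 2 (bau T) := h.syl.2.1.to_le (ChoiceBase.bau_le T)
    have hn : bau T ≤ normalizer (o2 L : Set G) := k.BL.trans (le_normalizer_o2 L)
    exact IsPGroup.to_sup_of_normal_left' (isPGroup_o2 L) h2B hn
  have hRH : o2 L ⊔ bau T ≤ H := sup_le ((o2_le L).trans (k.LH h)) (k.BL.trans (k.LH h))
  have hoB : o2 L ≤ normalizer (bau T : Set G) :=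
    le_sup_left.trans (le_norm_bau h hRH hRp le_sup_right)
  -- `O₂(L) ⊓ B ≤ QL`
  have hQ : ∀ x ∈ o2 L, x ∈ bau T → x ∈ QL T (N i) := by
    intro x hx hxB
    by_contra hxQ
    have h1 : N i ≤ V1 T V := by
      intro v hv
      refine cent_mod k h hxB hxQ hv ?_
      have h2 := o2_act k h (inv_mem hx) hv
      have h3 := h.V0n x (k.LH h (o2_le L hx)) _ h2
      have h4 := h.V0n v (k.LH h (o2_le L (N_le_o2 k h hv))) _ (o2_act k h hx hv)
      have e : v * (v⁻¹ * (x * v * x⁻¹)) * v⁻¹ = x * v * x⁻¹ * v⁻¹ := by group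
      rwa [e] at h4
    have h2 := h.card1 i
    rw [inf_eq_right.2 h1] at h2
    have h3 : 0 < Nat.card (N i) := Nat.card_pos
    have h4 := h.one_lt
    nlinarith
  -- `[O₂(L), L] ≤ C(N i)`
  have hCn : L ≤ normalizer (centralizer (N i : Set G) : Set G) := by
    intro x hx
    rw [mem_normalizer_iff_cj, cj_centralizer]
    congr 1
    exact_mod_cast cj_eq_of_mem_normalizer (LN k h hx)
  let D : Subgroup G :=
    { carrier := {l | l ∈ L ∧ ∀ x ∈ o2 L, x * l * x⁻¹ * l⁻¹ ∈ centralizer (N i : Set G)}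
      mul_mem' := by
        rintro a b ⟨ha, ha'⟩ ⟨hb, hb'⟩
        refine ⟨mul_mem ha hb, fun x hx => ?_⟩
        have e : x * (a * b) * x⁻¹ * (a * b)⁻¹ =
            (x * a * x⁻¹ * a⁻¹) * (a * (x * b * x⁻¹ * b⁻¹) * a⁻¹) := by group
        rw [e]
        exact mul_mem (ha' x hx) (Claim.conj_mem_of_norm hCn ha (hb' x hx))
      one_mem' := ⟨one_mem _, fun x _ => by simp⟩
      inv_mem' := by
        rintro a ⟨ha, ha'⟩
        refine ⟨inv_mem ha, fun x hx => ?_⟩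
        have e2 : x * a⁻¹ * x⁻¹ * a⁻¹⁻¹ = a⁻¹ * (x * a * x⁻¹ * a⁻¹)⁻¹ * a := by group
        rw [e2]
        exact Claim.conj_mem_of_norm' hCn ha (inv_mem (ha' x hx)) }
  have hD : L ≤ D := by
    refine (gen k h).trans (iSup_le fun g => ?_)
    rintro _ ⟨b, hb, rfl⟩
    show (g : G) * b * (g : G)⁻¹ ∈ D
    refine ⟨mul_mem (mul_mem g.2 (k.BL hb)) (inv_mem g.2), fun x hx => ?_⟩
    have hx' := Claim.conj_mem_of_norm' (le_normalizer_o2 L) g.2 hx
    have e : x * ((g : G) * b * (g : G)⁻¹) * x⁻¹ * ((g : G) * b * (g : G)⁻¹)⁻¹ =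
        g * (((g : G)⁻¹ * x * g) * b * ((g : G)⁻¹ * x * g)⁻¹ * b⁻¹) * (g : G)⁻¹ := by group
    rw [e]
    refine Claim.conj_mem_of_norm hCn g.2 ?_
    set y := (g : G)⁻¹ * x * g with hy
    have h1 : y * b * y⁻¹ * b⁻¹ ∈ bau T :=
      mul_mem ((mem_normalizer_iff.1 (hoB hx') b).1 hb) (inv_mem hb)
    have h2 : y * b * y⁻¹ * b⁻¹ ∈ o2 L := by
      have := Claim.conj_mem_of_norm (le_normalizer_o2 L) (k.BL hb) (inv_mem hx')
      have e3 : y * (b * y⁻¹ * b⁻¹) = y * b * y⁻¹ * b⁻¹ := by group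
      rw [← e3]
      exact mul_mem hx' this
    have h3 := (mem_QL.1 (hQ _ h2 h1)).2
    rw [mem_centralizer_iff]
    exact fun v hv => (h3 v hv).symm
  rw [N0, commutator_comm, commutator_le]
  intro l hl v hv
  rw [mem_centralizer_iff]
  intro x hx
  rw [commutatorElement_def]
  have hc := (hD hl).2 x hx
  set c := x * l * x⁻¹ * l⁻¹ with hcdef
  have hz := o2_act k h hx hv
  set z := v⁻¹ * (x * v * x⁻¹) with hzdef
  have hlv : l * v * l⁻¹ ∈ N i := (mem_normalizer_iff.1 (LN k h hl) v).1 hv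
  have hlz : l * z = z * l := V0_comm k h hl hz
  have hw : l * v * l⁻¹ * z ∈ N i := mul_mem hlv (h.V0N i hz)
  have hcw : (l * v * l⁻¹ * z) * c = c * (l * v * l⁻¹ * z) := mem_centralizer_iff.1 hc _ hw
  have e1 : x * l * x⁻¹ = c * l := by rw [hcdef]; group
  have e2 : x * v * x⁻¹ = v * z := by rw [hzdef]; group
  have e3 : x * (l * v * l⁻¹ * v⁻¹) * x⁻¹ = l * v * l⁻¹ * v⁻¹ := by
    calc x * (l * v * l⁻¹ * v⁻¹) * x⁻¹
        = (x * l * x⁻¹) * (x * v * x⁻¹) * (x * l * x⁻¹)⁻¹ * (x * v * x⁻¹)⁻¹ := by group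
      _ = (c * l) * (v * z) * (c * l)⁻¹ * (v * z)⁻¹ := by rw [e1, e2]
      _ = c * (l * v * l⁻¹ * (l * z) * l⁻¹) * c⁻¹ * z⁻¹ * v⁻¹ := by group
      _ = c * (l * v * l⁻¹ * (z * l) * l⁻¹) * c⁻¹ * z⁻¹ * v⁻¹ := by rw [hlz]
      _ = c * (l * v * l⁻¹ * z) * c⁻¹ * z⁻¹ * v⁻¹ := by group
      _ = (l * v * l⁻¹ * z) * c * c⁻¹ * z⁻¹ * v⁻¹ := by rw [hcw]
      _ = _ := by group
  calc x * (l * v * l⁻¹ * v⁻¹) = (x * (l * v * l⁻¹ * v⁻¹) * x⁻¹) * x := by group
    _ = l * v * l⁻¹ * v⁻¹ * x := by rw [e3]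

/-- **The Baumann block is a block in the sense of LEMMA K.** -/
theorem blk (k : BlkK H T V N i L) (h : InK H T Q V V0 N A q) :
    LemmaK.Main.Blk (bau T) L (N0 N i L) := by
  have hN0V : N0 N i L ≤ V := (N0_le k h).trans (h.NV i)
  have hNp : IsPGroup 2 (N i) := by
    intro x
    refine ⟨1, Subtype.ext ?_⟩
    have := h.Vsq x (h.NV i x.2)
    simpa using this
  have hN0p : IsPGroup 2 (N0 N i L) := hNp.to_le (N0_le k h)
  have hNL : N0 N i L ≤ L := hN0V.trans ((V_le_bau h).trans k.BL)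
  have hV0c : V0 ≤ centralizer (L : Set G) := fun v hv =>
    mem_centralizer_iff.2 fun l hl => V0_comm k h hl hv
  -- `irr` for subgroups of `N0`
  have hirr : ∀ U : Subgroup G, U ≤ N0 N i L → L ≤ normalizer (U : Set G) →
      ¬ U ≤ centralizer (L : Set G) → N0 N i L ≤ U := by
    intro U hU hn hne
    have h1 : N i ≤ U ⊔ V0 := by
      refine irr k h (sup_le (hU.trans (N0_le k h)) (h.V0N i)) le_sup_right (sup_norm k h hn) ?_
      exact fun h2 => hne ((le_sup_left.trans h2).trans hV0c)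
    have h2 : N0 N i L ≤ ⁅U, L⁆ := by
      rw [N0, commutator_comm (N i), commutator_le]
      intro x hx y hy
      obtain ⟨n, hn', z, hz, rfl⟩ := mem_sup_comm (fun a ha b hb =>
        h.Vcomm a (hN0V (hU ha)) b (h.NV i (h.V0N i hb))) (h1 hy)
      have e : ⁅x, n * z⁆ = ⁅x, n⁆ := by
        rw [commutatorElement_def, commutatorElement_def]
        exact Claim.comm_drop (V0_comm k h hx hz)
      rw [e, commutator_comm]
      exact commutator_mem_commutator hx hn'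
    refine h2.trans ?_
    rw [commutator_comm, commutator_le]
    intro x hx y hy
    rw [commutatorElement_def]
    exact mul_mem ((mem_normalizer_iff.1 (hn hx) y).1 hy) (inv_mem hy)
  refine LemmaK.Main.Blk.of_irr k.BL (gen k h) hNL ?_ ?_ hN0p
    (fun x hx y hy => h.Vcomm x (hN0V hx) y (hN0V hy)) (N0_comm k h) ?_
  · intro w h1 h2
    rw [← eq_vl k h]
    exact LemmaK.Endo.norm_vl h1 h2
  · intro x hx
    rw [mem_centralizer_iff]
    intro v hv
    exact (mem_centralizer_iff.1 (o2_cent k h hv) x hx).symm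
  · intro U hU hCU hLU hn
    exact hirr U hU hLU fun h3 => hn (le_inf hU h3)

/-! ### The block for THEOREM FPB -/

theorem V0_le_zj (h : InK H T Q V V0 N A q) (i : ι) : V0 ≤ zj T := fun _ hz =>
  h.V1_le_Z (h.V0V1 i hz).1

theorem QL_N0 (k : BlkK H T V N i L) (h : InK H T Q V V0 N A q) :
    QL T (N0 N i L) = QL T (N i) := by
  ext x
  rw [mem_QL, mem_QL]
  refine and_congr_right fun hx => ⟨fun h1 v hv => ?_, fun h1 v hv => h1 v (N0_le k h hv)⟩
  obtain ⟨n, hn, z, hz, rfl⟩ := N_split k h hv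
  have h2 := V0_comm k h (k.BL hx) hz
  calc x * (n * z) = (x * n) * z := by group
    _ = n * (x * z) := by rw [h1 n hn]; group
    _ = n * z * x := by rw [h2]; group

theorem mem_ln' (k : BlkK H T V N i L) (h : InK H T Q V V0 N A q) {v : G} :
    v ∈ ln T (N0 N i L) ↔ v ∈ N0 N i L ∧ v ∈ V1 T V ⊓ N i := by
  rw [mem_ln, ← h.Z_inf_N]
  exact ⟨fun h1 => ⟨h1.1, h1.2, N0_le k h h1.1⟩, fun h1 => ⟨h1.1, h1.2.1⟩⟩

theorem Mv_ln (k : BlkK H T V N i L) (h : InK H T Q V V0 N A q) {x : G} (hx : x ∈ L) :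
    Mv (ln T (N0 N i L)) x ↔ Mv (V1 T V ⊓ N i) x := by
  constructor
  · rintro ⟨v, hv, hne⟩
    obtain ⟨h1, h2⟩ := (mem_ln' k h).1 hv
    exact ⟨v, h2, fun h3 => hne ((mem_ln' k h).2
      ⟨(mem_normalizer_iff.1 (N0_norm k h hx) v).1 h1, h3⟩)⟩
  · rintro ⟨v, hv, hne⟩
    obtain ⟨n, hn, z, hz, rfl⟩ := N_split k h hv.2
    have hz1 := h.V0V1 i hz
    have hn1 : n ∈ V1 T V ⊓ N i := by
      have := mul_mem hv (inv_mem hz1)
      rwa [mul_inv_cancel_right] at this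
    refine ⟨n, (mem_ln' k h).2 ⟨hn, hn1⟩, fun h3 => hne ?_⟩
    have e : x * (n * z) * x⁻¹ = (x * n * x⁻¹) * z := by
      calc x * (n * z) * x⁻¹ = (x * n * x⁻¹) * ((x * z) * x⁻¹) := by group
        _ = (x * n * x⁻¹) * ((z * x) * x⁻¹) := by rw [V0_comm k h hx hz]
        _ = _ := by group
    rw [e]
    exact mul_mem ((mem_ln' k h).1 h3).2 hz1

/-- **The Baumann block is a block in the sense of THEOREM FPB.** -/
theorem bk (k : BlkK H T V N i L) (h : InK H T Q V V0 N A q) (hNY : N0 N i L ≤ Y)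
    (hLY : L ≤ normalizer (Y : Set G)) : Bk T Y L (N0 N i L) where
  BL := k.BL
  LY := hLY
  LV := N0_norm k h
  LP := by
    rw [QL_N0 k h]
    exact fun l hl => InK.norm_of_conj (k.QL_norm h l hl)
  VY := hNY
  quad := fun b hb v hv => h.V1_le_Z (h.bau_quad hb (N0_le k h hv)).1
  cent := by
    intro b hb hbP v hv hbv
    rw [QL_N0 k h] at hbP
    exact h.V1_le_Z (h.N_cent hb hbP (N0_le k h hv) hbv)
  card := by
    rw [QL_N0 k h, h.card_bau i]
    have h1 := card_sup_comm (A := N0 N i L) (B := V1 T V ⊓ N i) fun a ha b hb =>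
      h.Vcomm a (h.NV i (N0_le k h ha)) b (h.NV i hb.2)
    have h2 : N0 N i L ⊔ (V1 T V ⊓ N i) = N i := by
      refine le_antisymm (sup_le (N0_le k h) inf_le_right) ?_
      conv_lhs => rw [← N_eq k h]
      exact sup_le_sup_left (h.V0V1 i) _
    have h3 : N0 N i L ⊓ (V1 T V ⊓ N i) = ln T (N0 N i L) := by
      ext v
      rw [mem_ln' k h, mem_inf]
    rw [h2, h3, h.card1 i] at h1
    have hp : 0 < Nat.card ↥(V1 T V ⊓ N i) := Nat.card_pos
    have h4 : q * Nat.card (ln T (N0 N i L)) = Nat.card (N0 N i L) := by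
      refine Nat.eq_of_mul_eq_mul_right hp ?_
      rw [← h1]; ring
    rw [← h4]
    exact le_of_eq (by ring)
  off := by
    obtain ⟨a, ha, -, v, hv, hne⟩ := h.A_exists i
    refine ⟨A i, h.AT i, fun hle => hne ?_⟩
    have h1 := hle ha
    rw [QL_N0 k h] at h1
    exact (mem_QL.1 h1).2 v hv
  gen := by
    intro x hx hm X hX1 hX2
    exact k.gen h hx ((Mv_ln k h hx).1 hm) hX1 fun c hc => hX2 (Claim.conj_mem_cj hc)
  split := by
    intro z hz
    obtain ⟨w, hw, c, hc, hcL, rfl⟩ := split k h hz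
    obtain ⟨n, hn, z0, hz0, rfl⟩ := N_split k h hw.2
    have hz1 := h.V0V1 i hz0
    have hn1 : n ∈ V1 T V ⊓ N i := by
      have := mul_mem hw (inv_mem hz1)
      rwa [mul_inv_cancel_right] at this
    refine ⟨n, (mem_ln' k h).2 ⟨hn, hn1⟩, z0 * c, mul_mem (V0_le_zj h i hz0) hc,
      fun l hl => ?_, by group⟩
    calc l * (z0 * c) = (l * z0) * c := by group
      _ = z0 * (l * c) := by rw [V0_comm k h hl hz0]; group
      _ = z0 * c * l := by rw [hcL l hl]; group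
  mv := by
    intro x hx hm e he heP
    rw [QL_N0 k h] at heP
    rw [Mv_ln k h (mul_mem (mul_mem hx (k.BL he)) (inv_mem hx))]
    exact h.bau_moves (k.LS h hx) ((Mv_ln k h hx).1 hm) he heP
  faith := by
    intro v hv b hb hc
    by_cases hbQ : b ∈ QL T (N i)
    · exact (mem_QL.1 hbQ).2 v (N0_le k h hv)
    · have hvN := N0_le k h hv
      have h1 : b * v * b⁻¹ * v⁻¹ ∈ V0 :=
        cent_le k h (mul_mem ((mem_normalizer_iff.1 (LN k h (k.BL hb)) v).1 hvN) (inv_mem hvN)) hc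
      exact h.bau_V1 hb (cent_mod k h hb hbQ hvN h1)
  ne := by
    obtain ⟨l, hl, hm⟩ := k.mv
    exact ⟨l, hl, (Mv_ln k h hl).2 hm⟩

end Cfsg.Agent.Omega.NO3b.FPB.OfInK
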