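import Cfsg.Agent.Omega.NO3b.FPB.Base
import Cfsg.Agent.Omega.SQ1.BauSBlk
import Cfsg.Agent.Omega.LemmaK.Endo
import Cfsg.Agent.PLocal.OffenderStep

/-!
# THEOREM FPB (OMEGA #16134, helper526): the blocks with `q = 2` of `SQ1.BauS`

`h : BauS.In H T Q V N d t r` (types `S₃ ≀`, `S_{2^m+1} ≀`), `k : BauS.Blk H T V d r i L` (a minimal block
over `bau T` for `N i`):

* `irr`   : `L` is irreducible on `N i`;
* `eq_vl` : `N i = vl (bau T) L`;
* `blk`   : `LemmaK.Main.Blk (bau T) L (N i)`;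
* `bk`    : `FPB.Base.Bk T Y L (N i)`, if `N i ≤ Y` and `L ≤ N(Y)`.
-/

set_option autoImplicit false

namespace Cfsg.Agent.Omega.NO3b.FPB.OfS

open Subgroup Cfsg Cfsg.Agent.PLocal.ThompsonJ Cfsg.Agent.ZN Cfsg.Agent.ZN.ChoiceBase
open Cfsg.Agent.Omega.SQ1.Bau (Mv)
open Cfsg.Agent.Omega.SQ1.BauS
open Cfsg.Agent.Omega.SQ1.BauK.InK (QL mem_QL)
open Cfsg.Agent.Omega.NO3b.FPB.Base (Bk ln mem_ln)
open scoped Pointwise commutatorElement

universe u w

variable {G : Type u} [Group G] [Finite G] {H T Q V L Y : Subgroup G} {ι : Type w}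
  {N : ι → Subgroup G} {d t r : ι → G} {i : ι}

/-! ### The line `{1, d i}` -/

theorem d_mem_ln (h : In H T Q V N d t r) (i : ι) : d i ∈ ln T (N i) :=
  mem_ln.2 ⟨h.dN i, h.d_mem_Z i⟩

theorem ln_cases (h : In H T Q V N d t r) {v : G} (hv : v ∈ ln T (N i)) : v = 1 ∨ v = d i :=
  Blk.Z_inf_N h (mem_ln.1 hv).1 (mem_ln.1 hv).2

theorem mv_iff (k : Blk H T V d r i L) (h : In H T Q V N d t r) {l : G} (hl : l ∈ L) :
    Mv (ln T (N i)) l ↔ l * d i * l⁻¹ ≠ d i := by
  constructor
  · rintro ⟨v, hv, hv'⟩ e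
    apply hv'
    rcases ln_cases h hv with rfl | rfl
    · rw [mul_one, mul_inv_cancel]; exact one_mem _
    · rw [e]; exact hv
  · intro hm
    refine ⟨d i, d_mem_ln h i, fun hc => ?_⟩
    rcases ln_cases h hc with h1 | h1
    · apply h.d1 i
      calc d i = l⁻¹ * (l * d i * l⁻¹) * l := by group
        _ = 1 := by rw [h1]; group
    · exact hm h1

theorem card_ln (h : In H T Q V N d t r) (i : ι) : Nat.card (ln T (N i)) ≤ 2 := by
  classical
  have h1 : ((ln T (N i) : Subgroup G) : Set G) ⊆ ({1, d i} : Set G) := by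
    intro v hv
    rcases ln_cases h hv with h2 | h2
    · exact Or.inl h2
    · exact Or.inr h2
  have h2 := Nat.card_mono (Set.toFinite ({1, d i} : Set G)) h1
  refine h2.trans ?_
  rw [Nat.card_coe_set_eq]
  exact (Set.ncard_insert_le _ _).trans (by rw [Set.ncard_singleton])

/-! ### Irreducibility -/

/-- `L` is irreducible on `N i`. -/
theorem irr (k : Blk H T V d r i L) (h : In H T Q V N d t r) {U : Subgroup G} (hU : U ≤ N i)
    (hn : L ≤ normalizer (U : Set G)) (hne : U ≠ ⊥) : N i ≤ U := by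
  classical
  obtain ⟨l, hl, hm⟩ := k.mv
  have hlU : ∀ x ∈ L, ∀ u ∈ U, x * u * x⁻¹ ∈ U := fun x hx u hu =>
    (mem_normalizer_iff.1 (hn hx) u).1 hu
  have htL : t i ∈ L := k.BL (h.t_bau i)
  -- `d i ∈ U`
  have hd : d i ∈ U := by
    obtain ⟨u, hu, hu1⟩ := (Subgroup.bot_or_exists_ne_one U).resolve_left hne
    rcases h.t_comm i u (h.NV i (hU hu)) with h1 | h1
    · rcases h.t_ne i (hU hu) h1 with h2 | h2
      · exact absurd h2 hu1
      · rwa [← h2]
    · have h2 := mul_mem (hlU _ htL u hu) (inv_mem hu)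
      rwa [h1, mul_inv_cancel_right] at h2
  have hld : l * d i * l⁻¹ ∈ U := hlU l hl _ hd
  have hl1 : l * d i * l⁻¹ ≠ 1 := fun h1 => h.d1 i (by
    calc d i = l⁻¹ * (l * d i * l⁻¹) * l := by group
      _ = 1 := by rw [h1]; group)
  -- three elements
  have h3 : 3 ≤ Nat.card U := by
    let f : Fin 3 → U := ![1, ⟨d i, hd⟩, ⟨_, hld⟩]
    have hf : Function.Injective f := by
      intro a b hab
      have hab' : ((f a : U) : G) = f b := congrArg Subtype.val hab
      fin_cases a <;> fin_cases b <;> simp [f] at hab' ⊢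
      all_goals first
        | exact h.d1 i hab'.symm
        | exact hl1 hab'.symm
        | exact h.d1 i hab'
        | exact hm hab'.symm
        | exact hl1 hab'
        | exact hm hab'
    have := Nat.card_le_card_of_injective f hf
    rwa [Nat.card_fin] at this
  have h4 : Nat.card U ∣ 4 := by
    rw [← h.cardN i]
    exact Subgroup.card_dvd_of_le hU
  have h5 : Nat.card U = 4 := by
    have h6 := Nat.le_of_dvd (by norm_num) h4
    interval_cases hc : Nat.card U
    · omega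
    · rfl
  exact (Subgroup.eq_of_le_of_card_ge hU (by rw [h5, h.cardN])).ge

/-! ### `N i = [Ω₁Z(B)^L, L]` -/

theorem zl_le (k : Blk H T V d r i L) (h : In H T Q V N d t r) : zl (bau T) L ≤ VV T N i := by
  rw [zl]
  refine iSup_le fun x => ?_
  rintro _ ⟨z, hz, rfl⟩
  refine k.VV_norm h x.2 ?_
  have hz' : z ∈ zc (bau T) := hz
  rw [ChoiceBase.zc_bau] at hz'
  exact mem_sup_left hz'

theorem zj_le_zl (T L : Subgroup G) : zj T ≤ zl (bau T) L := by
  intro z hz
  rw [← ChoiceBase.zc_bau T] at hz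
  have h1 : (zc (bau T)).map (MulAut.conj ((1 : L) : G)).toMonoidHom ≤ zl (bau T) L :=
    le_iSup (fun x : L => (zc (bau T)).map (MulAut.conj (x : G)).toMonoidHom) 1
  refine h1 ⟨z, hz, ?_⟩
  simp

/-- `Z = ⟨d i⟩ C_Z(L)`. -/
theorem split (k : Blk H T V d r i L) (h : In H T Q V N d t r) {z : G} (hz : z ∈ zj T) :
    ∃ a ∈ ln T (N i), ∃ c ∈ zj T, (∀ l ∈ L, l * c = c * l) ∧ z = a * c := by
  obtain ⟨l, hl, hm⟩ := k.mv
  rcases k.Z_split h hl hm hz with h1 | h1
  · exact ⟨1, one_mem _, z, hz, k.cent_of h hl hm hz h1, (one_mul z).symm⟩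
  · have h2 := mul_mem (h.d_mem_Z i) hz
    refine ⟨d i, d_mem_ln h i, d i * z, h2, k.cent_of h hl hm h2 h1, ?_⟩
    rw [← mul_assoc, h.mulself (h.dV i), one_mul]

/-- `[V_L, L] ≤ N i`. -/
theorem comm_VV (k : Blk H T V d r i L) (h : In H T Q V N d t r) {x y : G} (hx : x ∈ L)
    (hy : y ∈ VV T N i) : x * y * x⁻¹ * y⁻¹ ∈ N i := by
  obtain ⟨z, hz, v, hv, rfl⟩ := Blk.mem_VV h hy
  obtain ⟨a, ha, c, hc, hcL, rfl⟩ := split k h hz
  have hav : a * v ∈ N i := mul_mem (mem_ln.1 ha).1 hv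
  have hcv : c * v = v * c := h.ZcV c hc v (h.NV i hv)
  have e1 : a * c * v = (a * v) * c := by rw [mul_assoc, hcv, mul_assoc]
  have e2 : x * (a * c * v) * x⁻¹ * (a * c * v)⁻¹ = x * (a * v) * x⁻¹ * (a * v)⁻¹ := by
    rw [e1]
    calc x * (a * v * c) * x⁻¹ * (a * v * c)⁻¹ = x * (a * v) * (c * x⁻¹) * c⁻¹ * (a * v)⁻¹ := by
          group
      _ = x * (a * v) * (x⁻¹ * c) * c⁻¹ * (a * v)⁻¹ := by rw [hcL x⁻¹ (inv_mem hx)]
      _ = _ := by group
  rw [e2]
  exact mul_mem (k.L_N h hx hav) (inv_mem hav)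

theorem L_norm_N (k : Blk H T V d r i L) (h : In H T Q V N d t r) :
    L ≤ normalizer (N i : Set G) := fun x hx => mem_normalizer_of_cj_le (by
  rintro _ ⟨v, hv, rfl⟩
  exact k.L_N h hx hv)

theorem cj_zl {x : G} (hx : x ∈ L) : cj x (zl (bau T) L) ≤ zl (bau T) L := by
  rw [zl]
  change Subgroup.map _ _ ≤ _
  rw [Subgroup.map_iSup]
  refine iSup_le fun g => ?_
  change ChoiceBase.cj x (ChoiceBase.cj (g : G) (zc (bau T))) ≤ _
  rw [cj_cj]
  exact le_iSup (fun g : L => (zc (bau T)).map (MulAut.conj (g : G)).toMonoidHom)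
    ⟨x * g, L.mul_mem hx g.2⟩

/-- The module of the block is the commutator `vl B L`. -/
theorem eq_vl (k : Blk H T V d r i L) (h : In H T Q V N d t r) : vl (bau T) L = N i := by
  have h1 : vl (bau T) L ≤ N i := by
    rw [vl, commutator_comm, commutator_le]
    intro x hx y hy
    rw [commutatorElement_def]
    exact comm_VV k h hx (zl_le k h hy)
  refine le_antisymm h1 (irr k h h1 ?_ ?_)
  · intro x hx
    exact LemmaK.Endo.norm_vl (Subgroup.le_normalizer hx) (mem_normalizer_of_cj_le (cj_zl hx))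
  · intro h0
    obtain ⟨l, hl, hm⟩ := k.mv
    have h2 : ⁅d i, l⁆ ∈ vl (bau T) L :=
      commutator_mem_commutator (zj_le_zl T L (h.d_mem_Z i)) hl
    rw [h0, mem_bot, commutatorElement_eq_one_iff_mul_comm] at h2
    apply hm
    rw [← h2]
    group

theorem gen (k : Blk H T V d r i L) (h : In H T Q V N d t r) :
    L ≤ ⨆ x : L, cj (x : G) (bau T) := by
  obtain ⟨l, hl, hm⟩ := k.mv
  refine k.gen h hl hm ?_ ?_
  · have h1 : cj ((1 : L) : G) (bau T) ≤ ⨆ x : L, cj (x : G) (bau T) :=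
      le_iSup (fun x : L => cj (x : G) (bau T)) 1
    intro b hb
    exact h1 ⟨b, hb, by simp⟩
  · intro b hb
    have h1 : cj l (bau T) ≤ ⨆ x : L, cj (x : G) (bau T) :=
      le_iSup (fun x : L => cj (x : G) (bau T)) ⟨l, hl⟩
    exact h1 ⟨b, hb, rfl⟩

theorem N_le_L (k : Blk H T V d r i L) (h : In H T Q V N d t r) : N i ≤ L :=
  le_sup_right.trans ((Blk.VV_le_B h).trans k.BL)

/-- **The Baumann block is a block in the sense of LEMMA K.** -/
theorem blk (k : Blk H T V d r i L) (h : In H T Q V N d t r) :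
    LemmaK.Main.Blk (bau T) L (N i) := by
  have hNp : IsPGroup 2 (N i) := by
    intro x
    refine ⟨1, Subtype.ext ?_⟩
    have := h.Vsq x (h.NV i x.2)
    simpa using this
  have hne : N i ≠ ⊥ := fun h0 => h.d1 i (by
    have := h.dN i
    rwa [h0, mem_bot] at this)
  have hLN := L_norm_N k h
  refine LemmaK.Main.Blk.of_irr k.BL (gen k h) (N_le_L k h) ?_ ?_ hNp
    (fun x hx y hy => h.Vcomm x (h.NV i hx) y (h.NV i hy)) ?_ ?_
  · intro w h1 h2
    rw [← eq_vl k h]
    exact LemmaK.Endo.norm_vl h1 h2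
  · have h1 : L ≤ normalizer ((N i ⊓ centralizer (o2 L : Set G) : Subgroup G) : Set G) := by
      intro x hx
      rw [mem_normalizer_iff_cj, cj_inf, cj_eq_of_mem_normalizer (hLN hx), cj_centralizer,
        cj_eq_of_mem_normalizer (le_normalizer_o2 L hx)]
    have : Fact (Nat.Prime 2) := ⟨Nat.prime_two⟩
    have h2 := irr k h inf_le_left h1 (Cfsg.Agent.PLocal.OffenderStep.inf_centralizer_ne_bot
      (N i) (o2 L) hNp (isPGroup_o2 L) ((o2_le L).trans hLN) hne)
    intro x hx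
    rw [mem_centralizer_iff]
    intro v hv
    exact (mem_centralizer_iff.1 (h2 hv).2 x hx).symm
  · refine irr k h ?_ ?_ ?_
    · rw [commutator_comm, commutator_le]
      intro x hx y hy
      rw [commutatorElement_def]
      exact mul_mem ((mem_normalizer_iff.1 (hLN hx) y).1 hy) (inv_mem hy)
    · intro x hx
      rw [mem_normalizer_iff_cj]
      change Subgroup.map _ ⁅N i, L⁆ = _
      rw [Subgroup.map_commutator]
      change ⁅ChoiceBase.cj x (N i), ChoiceBase.cj x L⁆ = _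
      rw [cj_eq_of_mem_normalizer (hLN hx), cj_eq_of_mem_normalizer (Subgroup.le_normalizer hx)]
    · intro h0
      obtain ⟨l, hl, hm⟩ := k.mv
      have h2 : ⁅d i, l⁆ ∈ ⁅N i, L⁆ := commutator_mem_commutator (h.dN i) hl
      rw [h0, mem_bot, commutatorElement_eq_one_iff_mul_comm] at h2
      apply hm
      rw [← h2]
      group
  · intro U hU hCU hLU hn
    exact irr k h hU hLU fun h0 => hn (by rw [h0]; exact bot_le)

/-- `L` centralises the `d j`, `j ≠ i`. -/
theorem cent_d (k : Blk H T V d r i L) (h : In H T Q V N d t r) {j : ι} (hj : i ≠ j) :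
    ∀ x ∈ L, x * d j = d j * x := by
  have h1 : PP H T V (r i) ≤ centralizer ({d j} : Set G) := by
    refine sup_le (sup_le (fun b hb => ?_) ?_) ?_
    · rw [mem_centralizer_iff]
      intro w hw
      rw [show w = d j from hw]
      exact (mem_bau.1 hb).2 _ (h.d_mem_Z j)
    · rw [zpowers_le, mem_centralizer_iff]
      intro w hw
      rw [show w = d j from hw]
      have h2 := h.r_d' hj
      calc d j * r i = (r i * d j * (r i)⁻¹) * r i := by rw [h2]
        _ = r i * d j := by group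
    · rintro c ⟨-, hc⟩
      rw [mem_centralizer_iff]
      intro w hw
      rw [show w = d j from hw]
      exact mem_centralizer_iff.1 hc _ (h.dV j)
  intro x hx
  exact (mem_centralizer_iff.1 (h1 (k.LP hx)) _ rfl).symm

/-- **The Baumann block is an abstract block in the sense of THEOREM FPB.** -/
theorem bk (k : Blk H T V d r i L) (h : In H T Q V N d t r) (hNY : N i ≤ Y)
    (hLY : L ≤ normalizer (Y : Set G)) : Bk T Y L (N i) where
  BL := k.BL
  LY := hLY
  LV := L_norm_N k h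
  LP := k.QQ_norm h
  VY := hNY
  quad b hb v hv := h.D_le_Z ((h.EE_good (h.bau_EE hb)).comm v (h.NV i hv))
  cent b hb hbP v hv hbv := by
    have h1 : b * v * b⁻¹ = v := by rw [hbv]; group
    rcases h.B_ne hb hbP hv h1 with h2 | h2
    · rw [h2]; exact one_mem _
    · rw [h2]; exact h.d_mem_Z i
  card := by
    have h1 : Nat.card (bau T) = Nat.card (QL T (N i)) * 2 := by
      rw [← Blk.relIndex_QQ (i := i) h]
      have h2 := Subgroup.card_mul_index ((QQ T N i).subgroupOf (bau T))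
      have h3 : Nat.card ((QQ T N i).subgroupOf (bau T)) = Nat.card (QQ T N i) :=
        Nat.card_congr (Subgroup.subgroupOfEquivOfLe
          (show QQ T N i ≤ bau T from inf_le_left)).toEquiv
      rw [h3] at h2
      exact h2.symm
    rw [h1, h.cardN]
    calc Nat.card (QL T (N i)) * 2 * Nat.card (ln T (N i)) ≤ Nat.card (QL T (N i)) * 2 * 2 :=
        Nat.mul_le_mul_left _ (card_ln h i)
      _ = Nat.card (QL T (N i)) * 4 := by ring
  off := by
    by_contra hc
    push Not at hc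
    apply h.t_not_QQ i
    have h1 : jj T ≤ QL T (N i) := by
      rw [jj_eq]
      exact sSup_le hc
    exact h1 (h.tJ i)
  gen x hx hm X hX hxX := by
    refine k.gen h hx ((mv_iff k h hx).1 hm) hX fun b hb => hxX ?_
    exact ⟨b, hb, rfl⟩
  split z hz := split k h hz
  mv x hx hm e he heP := by
    have hm' := (mv_iff k h hx).1 hm
    rw [mv_iff k h (mul_mem (mul_mem hx (k.BL he)) (inv_mem hx))]
    intro hc
    have h1 : e * (x⁻¹ * d i * x) * e⁻¹ = x⁻¹ * d i * x := by
      calc e * (x⁻¹ * d i * x) * e⁻¹ = x⁻¹ * (x * e * x⁻¹ * d i * (x * e * x⁻¹)⁻¹) * x := by group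
        _ = x⁻¹ * d i * x := by rw [hc]
    rcases h.B_ne he heP (k.L_N' h hx (h.dN i)) h1 with h2 | h2
    · apply h.d1 i
      calc d i = x * (x⁻¹ * d i * x) * x⁻¹ := by group
        _ = 1 := by rw [h2]; group
    · exact k.mv_inv hm' h2
  faith v hv b hb hc := by
    have h1 : b * v * b⁻¹ * v⁻¹ ∈ zj T :=
      h.D_le_Z ((h.EE_good (h.bau_EE hb)).comm v (h.NV i hv))
    have h2 : b * v * b⁻¹ * v⁻¹ ∈ N i := mul_mem (h.B_N hb hv) (inv_mem hv)
    rcases Blk.Z_inf_N h h2 h1 with h3 | h3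
    · exact Base.comm_iff.2 h3
    · exfalso
      obtain ⟨l, hl, hm⟩ := k.mv
      rw [h3] at hc
      apply hm
      rw [hc l hl]
      group
  ne := by
    obtain ⟨l, hl, hm⟩ := k.mv
    exact ⟨l, hl, (mv_iff k h hl).2 hm⟩

end Cfsg.Agent.Omega.NO3b.FPB.OfS
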