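import Cfsg.Agent.Omega.NO3b.FPB.Main
import Cfsg.Agent.Omega.NO3b.FPB.Move
import Cfsg.Agent.Omega.NO3b.FPB.OfInK
import Cfsg.Agent.Omega.NO3b.FPB.OfS
import Cfsg.Agent.Omega.NO3b.FPB.SymIn
import Cfsg.Agent.Omega.LemmaK.Main
import Cfsg.Agent.MinSimple.EmptyTI

/-!
# COR. (CEN) of #16134 (OMEGA, helper526): minimal parabolics in `C_G(Ω₁ Z(S))` over the Baumann subgroup

`G` of characteristic 2 type, `S` a Sylow 2-subgroup, `Z = Ω₁(Z(S))`, `B = bau S`.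

* `no_blk`: no Baumann block over `B` centralises `Z`;
* `cen`: `B ≤ T`, `X ≤ C_G(Z)` a minimal parabolic over `T ∈ Syl₂(X)` of characteristic 2 with
  `J(S) ≰ O₂(X)`: then `O²(X)` centralises `⟨Ω₁(Z(T))^X⟩`.
-/

set_option autoImplicit false

namespace Cfsg.Agent.Omega.NO3b.FPB.Cen

open Subgroup Cfsg Cfsg.Agent.PLocal.ThompsonJ Cfsg.Agent.ZN Cfsg.Agent.ZN.ChoiceBase
open Cfsg.Agent.ZN.ChoiceSit
open Cfsg.Agent.Omega.NO3b.FPB.Base
open Cfsg.Agent.Omega.SQ1 (BauK.InK BauK.BlkK)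
open Cfsg.Agent.Omega.SQ1.FFOne (MinH minH_of exists_inK)
open Cfsg.Agent.Omega.SQ1.VOf (zl_norm cent_norm)
open Cfsg.Agent.Omega.FrameFF (cv)
open Cfsg.Agent.MinSimple.EmptyTI (syl_of_le)
open Cfsg.Agent.MinSimple.MinParabolic (IsMinPar)
open Cfsg.Agent.MinSimple.VModule (oddGen oddGen_le oddGen_le_of_sup)

universe u

variable {G : Type u} [Group G]

/-- **No block over `bau S` centralises `Ω₁ Z(S)`.** -/
theorem no_blk [Finite G] (hG : IsCharacteristicTwoType G) (S : Sylow 2 G) {L V : Subgroup G}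
    (hS : (S : Subgroup G) ≠ ⊥) (hb : LemmaK.Main.Blk (bau (S : Subgroup G)) L V)
    (hV : IsElementaryAbelian 2 V)
    (hk : ∀ Y : Subgroup G, V ≤ Y → L ≤ normalizer (Y : Set G) → Bk (S : Subgroup G) Y L V) :
    ¬ L ≤ centralizer (zc (S : Subgroup G) : Set G) := by
  intro hL
  set Z := zc (S : Subgroup G) with hZ
  have hZ1 : Z ≠ ⊥ := MinSimple.Basic.zc_ne_bot S.isPGroup' hS
  have hZS : Z ≤ (S : Subgroup G) := fun z hz => (ChoiceBase.mem_zc.1 hz).1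
  have hZ2 : IsPGroup 2 Z := S.isPGroup'.to_le hZS
  set H := normalizer (Z : Set G) with hH
  have hc := MinSimple.Basic.char2_normalizer hG hZ2 hZ1
  have hLH : L ≤ H := hL.trans (centralizer_le_normalizer _)
  have hSH : (S : Subgroup G) ≤ H := by
    intro s hs
    rw [hH, mem_normalizer_iff_cj]
    have h1 : s ∈ normalizer ((S : Subgroup G) : Set G) := Subgroup.le_normalizer hs
    exact mem_normalizer_iff_cj.1 (normalizer_le_normalizer_zc _ h1)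
  have hV2 := hb.le_o2 S hc hLH
  have hoS : o2 H ≤ (S : Subgroup G) := o2_le_syl (syl_of_le hSH)
  have hVY : V ≤ zc (o2 H) := by
    intro v hv
    refine ChoiceBase.mem_zc.2 ⟨(hV2 hv).1, ?_, fun x hx => mem_centralizer_iff.1 (hV2 hv).2 x hx⟩
    exact SQ1.Bau.elem_sq hV v hv
  have hYe : IsElementaryAbelian 2 (zc (o2 H)) := ZN.isElementaryAbelian_zc _
  have hHY : H ≤ normalizer ((zc (o2 H) : Subgroup G) : Set G) :=
    (ZN.le_normalizer_o2 H).trans (normalizer_le_normalizer_zc _)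
  have hYS : zc (o2 H) ≤ (S : Subgroup G) := fun z hz => hoS (ChoiceBase.mem_zc.1 hz).1
  exact Main.not_le_centralizer S.isPGroup' hYe hYS (hSH.trans hHY)
    (hk _ hVY (hLH.trans hHY)) hL

/-- A Baumann block over `bau T` in `X`. -/
def HasBlk (T X : Subgroup G) : Prop :=
  ∃ L V : Subgroup G, L ≤ X ∧ LemmaK.Main.Blk (bau T) L V ∧ IsElementaryAbelian 2 V ∧
    ∀ Y : Subgroup G, V ≤ Y → L ≤ normalizer (Y : Set G) → Bk T Y L V

theorem hasBlk_nat [Finite G] {H T Q V V0 : Subgroup G} {ι : Type} {N A : ι → Subgroup G} {q : ℕ}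
    (h : BauK.InK H T Q V V0 N A q) (i : ι) : HasBlk T H := by
  obtain ⟨L, k⟩ := h.exists_blk i
  refine ⟨L, OfInK.N0 N i L, k.LH h, OfInK.blk k h, ?_, fun Y hVY hLY => OfInK.bk k h hVY hLY⟩
  exact isElementaryAbelian_mono
    (isElementaryAbelian_iff.2 ⟨fun v hv w hw => h.VcQ v (h.VQ hv) w hw, h.Vsq⟩)
    ((OfInK.N0_le k h).trans (h.NV i))

theorem hasBlk_sym [Finite G] {H T Q V : Subgroup G} {ι : Type} {N : ι → Subgroup G} {d t r : ι → G}
    (h : SQ1.BauS.In H T Q V N d t r) (i : ι) : HasBlk T H := by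
  obtain ⟨L, k⟩ := h.exists_blk i
  refine ⟨L, N i, k.LP.trans (h.PP_le i), OfS.blk k h, ?_, fun Y hVY hLY => OfS.bk k h hVY hLY⟩
  exact isElementaryAbelian_mono h.Velem (h.NV i)

/-- The FF theorem gives a block. -/
theorem hasBlk_of [Finite G] (hFF : FFThm.Stmt.{u}) {T X : Subgroup G} (hT : Syl T X)
    (hP : IsMinPar T X) (hc : X ⊓ centralizer (o2 X : Set G) ≤ o2 X) (hJ : ¬ jj T ≤ o2 X)
    (hne : (X ⊓ centralizer (zl T X : Set G)) ⊔ T ≠ X) : HasBlk T X := by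
  have hm := minH_of hT hP hc
  obtain ⟨A, hA, hoff⟩ := SymIn.exists_off hm hne hJ
  obtain ⟨hno, ⟨F, _, _, _, k, hk, ⟨N⟩⟩ | ⟨k, m, hk, hm2, ⟨N⟩⟩⟩ :=
    hFF G T X hT hP hc ⟨A, hA.2.1.trans hT.1, hoff⟩
  · obtain ⟨N', E, h⟩ := exists_inK hT hP hc hJ hk N
    exact hasBlk_nat h ⟨0, hk⟩
  · obtain ⟨ι, N', d, t, r, ⟨i⟩, h, -⟩ := SymIn.main hm hJ hno hk (by omega) N
    exact hasBlk_sym h i

/-- `C_X(V) T ≠ X` unless `O²(X)` centralises `V = ⟨Ω₁(Z(T))^X⟩`. -/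
theorem cent_sup_ne [Finite G] {T X : Subgroup G} (hT : Syl T X)
    (hne : ¬ oddGen X ≤ centralizer (zl T X : Set G)) :
    (X ⊓ centralizer (zl T X : Set G)) ⊔ T ≠ X := by
  intro h0
  apply hne
  refine (oddGen_le_of_sup (K := X ⊓ centralizer (zl T X : Set G)) (S := T) ?_ h0.ge hT.1
    inf_le_left hT.2.1).trans inf_le_right
  exact fun x hx => SQ1.FFOne.mem_norm_of fun k hk => cent_norm x hx k hk

/-- **(CEN)** -/
theorem cen [Finite G] (hFF : FFThm.Stmt.{u}) (hG : IsCharacteristicTwoType G) (S : Sylow 2 G)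
    {T X : Subgroup G} (hBT : bau (S : Subgroup G) ≤ T) (hT : Syl T X) (hP : IsMinPar T X)
    (hc : X ⊓ centralizer (o2 X : Set G) ≤ o2 X)
    (hXZ : X ≤ centralizer (zc (S : Subgroup G) : Set G)) (hJ : ¬ jj (S : Subgroup G) ≤ o2 X) :
    oddGen X ≤ centralizer (zl T X : Set G) := by
  by_contra hne
  have hJT : ¬ jj T ≤ o2 X := by rwa [LemmaK.Main.jj_eq S hT.2.1 hBT]
  have hb := LemmaK.Main.bau_eq S hT.2.1 hBT
  obtain ⟨L, V, hLX, hbl, hV, hk⟩ := hasBlk_of hFF hT hP hc hJT (cent_sup_ne hT hne)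
  rw [hb] at hbl
  refine no_blk hG S (fun h0 => hJ ?_) hbl hV (fun Y hVY hLY => Move.Bk.of_bau (hk Y hVY hLY) hb)
    (hLX.trans hXZ)
  exact ((ZN.jj_le _).trans h0.le).trans bot_le

/-- (CEN) for `Ω₁(Z(T))`. -/
theorem cen_zc [Finite G] (hFF : FFThm.Stmt.{u}) (hG : IsCharacteristicTwoType G) (S : Sylow 2 G)
    {T X : Subgroup G} (hBT : bau (S : Subgroup G) ≤ T) (hT : Syl T X) (hP : IsMinPar T X)
    (hc : X ⊓ centralizer (o2 X : Set G) ≤ o2 X)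
    (hXZ : X ≤ centralizer (zc (S : Subgroup G) : Set G)) (hJ : ¬ jj (S : Subgroup G) ≤ o2 X) :
    zc T ≤ centralizer (oddGen X : Set G) :=
  SQ1.VOf.zc_le_zl.trans (le_centralizer_iff.1 (cen hFF hG S hBT hT hP hc hXZ hJ))

end Cfsg.Agent.Omega.NO3b.FPB.Cen
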