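import Cfsg.Agent.Omega.SQ1.BauK
import Cfsg.Agent.Omega.SQ1.BauBlk

/-!
# THEOREM FPB (OMEGA #16134, helper526), part 1: the order argument

`S` is a 2-group, `Y ≤ S` elementary abelian, `A ∈ A(S)`.  For `W ≤ Y` and `E ≤ A` we have
`|E| |C_W(E)| ≤ |A| |C_W(A)|`; `BB W A E` says that equality holds.  `BB` is closed under `⊓`,
and `E C_W(E) ∈ A(S)` for `BB W A E`.

`Bk S Y L V`: an abstract Baumann block over `B = bau S` with module `V ≤ Y`.
`Bk.off`: for `V ≤ W ≤ Y` and `E` with `E C_W(E) ∈ A(S)`, `E ≰ P = C_B(V)`: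
`B = E P`, `C_W(E ⊓ P) = V C_W(E)`, `|E : E ⊓ P| = |V : V ⊓ Z_J|`.
-/

set_option autoImplicit false

namespace Cfsg.Agent.Omega.NO3b.FPB.Base

open Subgroup Cfsg Cfsg.Agent.PLocal.ThompsonJ Cfsg.Agent.ZN Cfsg.Agent.ZN.ChoiceBase
open Cfsg.Agent.PLocal.ElemAbSup
open Cfsg.Agent.Omega.SQ1.Bau (mem_AA_of_comm zj_le_AA elem_comm elem_sq mem_sup_comm card_sup_comm
  mem_sup_norm Mv not_mv_iff mv_inv exists_min)
open Cfsg.Agent.Omega.SQ1.BauK.InK (QL mem_QL not_QL)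
open scoped Pointwise

universe u

variable {G : Type u} [Group G]

/-! ### `C_W(E)` -/

/-- `C_W(E)`. -/
def cW (W E : Subgroup G) : Subgroup G := W ⊓ centralizer (E : Set G)

theorem mem_cW {W E : Subgroup G} {x : G} : x ∈ cW W E ↔ x ∈ W ∧ ∀ e ∈ E, e * x = x * e := by
  rw [cW, mem_inf, mem_centralizer_iff]
  rfl

theorem cW_le (W E : Subgroup G) : cW W E ≤ W := inf_le_left

theorem cW_anti (W : Subgroup G) {E F : Subgroup G} (h : E ≤ F) : cW W F ≤ cW W E :=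
  fun _ hx => mem_cW.2 ⟨(mem_cW.1 hx).1, fun e he => (mem_cW.1 hx).2 e (h he)⟩

theorem cW_sup (W E F : Subgroup G) : cW W (E ⊔ F) = cW W E ⊓ cW W F := by
  apply le_antisymm (le_inf (cW_anti W le_sup_left) (cW_anti W le_sup_right))
  rintro x ⟨h1, h2⟩
  obtain ⟨h1, h1'⟩ := mem_cW.1 h1
  obtain ⟨-, h2'⟩ := mem_cW.1 h2
  refine mem_cW.2 ⟨h1, ?_⟩
  have h3 : E ⊔ F ≤ centralizer ({x} : Set G) := by
    refine sup_le (fun e he => ?_) (fun e he => ?_)
    · rw [mem_centralizer_iff]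
      intro y hy
      rw [show y = x from hy]
      exact (h1' e he).symm
    · rw [mem_centralizer_iff]
      intro y hy
      rw [show y = x from hy]
      exact (h2' e he).symm
  exact fun e he => (mem_centralizer_iff.1 (h3 he) x rfl).symm

/-- `C_W(A) = A ⊓ W` for `A ∈ A(S)`. -/
theorem cW_eq [Finite G] {S W A : Subgroup G} (hA : A ∈ AA S) (hWS : W ≤ S)
    (hW : IsElementaryAbelian 2 W) : cW W A = A ⊓ W := by
  apply le_antisymm
  · intro x hx
    obtain ⟨h1, h2⟩ := mem_cW.1 hx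
    exact ⟨mem_AA_of_comm hA (hWS h1) (elem_sq hW x h1) h2, h1⟩
  · rintro x ⟨h1, h2⟩
    exact mem_cW.2 ⟨h2, fun e he => elem_comm hA.1 e he x h1⟩

theorem cW_comm {W E : Subgroup G} : ∀ e ∈ E, ∀ c ∈ cW W E, e * c = c * e :=
  fun e he _ hc => (mem_cW.1 hc).2 e he

/-- `|E C_W(E)| |E ⊓ W| = |E| |C_W(E)|`. -/
theorem card_star [Finite G] {W E : Subgroup G} (hE : IsElementaryAbelian 2 E) :
    Nat.card ↥(E ⊔ cW W E) * Nat.card ↥(E ⊓ W) = Nat.card E * Nat.card (cW W E) := by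
  rw [← card_sup_comm cW_comm]
  have h : E ⊓ cW W E = E ⊓ W := by
    apply le_antisymm (inf_le_inf_left E (cW_le W E))
    rintro x ⟨h1, h2⟩
    exact ⟨h1, mem_cW.2 ⟨h2, fun e he => elem_comm hE e he x h1⟩⟩
  rw [h]

theorem star_elem [Finite G] {W E : Subgroup G} (hE : IsElementaryAbelian 2 E)
    (hW : IsElementaryAbelian 2 W) : IsElementaryAbelian 2 (E ⊔ cW W E : Subgroup G) :=
  isElementaryAbelian_sup hE (isElementaryAbelian_mono hW (cW_le W E))
    fun _ hc => mem_centralizer_iff.2 fun e he => cW_comm e he _ hc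

theorem star_le {S W E : Subgroup G} (hES : E ≤ S) (hWS : W ≤ S) : E ⊔ cW W E ≤ S :=
  sup_le hES ((cW_le W E).trans hWS)

/-- `|E| |C_W(E)| ≤ |A| |C_W(A)|`. -/
theorem card_le [Finite G] {S W A E : Subgroup G} (hA : A ∈ AA S) (hWS : W ≤ S)
    (hW : IsElementaryAbelian 2 W) (hE : E ≤ A) :
    Nat.card E * Nat.card (cW W E) ≤ Nat.card A * Nat.card (cW W A) := by
  have hE2 := isElementaryAbelian_mono hA.1 hE
  rw [← card_star hE2, cW_eq hA hWS hW]
  exact Nat.mul_le_mul (hA.2.2 _ (star_elem hE2 hW) (star_le (hE.trans hA.2.1) hWS))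
    (Subgroup.card_le_of_le (inf_le_inf_right W hE))

/-- `E ≤ A` with `|E| |C_W(E)| = |A| |C_W(A)|`. -/
def BB (W A E : Subgroup G) : Prop :=
  E ≤ A ∧ Nat.card A * Nat.card (cW W A) = Nat.card E * Nat.card (cW W E)

theorem BB.self (W A : Subgroup G) : BB W A A := ⟨le_rfl, rfl⟩

theorem BB.star [Finite G] {S W A E : Subgroup G} (hA : A ∈ AA S) (hWS : W ≤ S)
    (hW : IsElementaryAbelian 2 W) (h : BB W A E) : E ⊔ cW W E ∈ AA S := by
  have hE2 := isElementaryAbelian_mono hA.1 h.1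
  have h1 := h.2
  rw [← card_star hE2, cW_eq hA hWS hW] at h1
  have h2 : Nat.card ↥(E ⊓ W) ≤ Nat.card ↥(A ⊓ W) :=
    Subgroup.card_le_of_le (inf_le_inf_right W h.1)
  have h3 : 0 < Nat.card ↥(A ⊓ W) := Nat.card_pos
  rw [mem_AA_iff, mm_eq hA]
  refine ⟨star_elem hE2 hW, star_le (h.1.trans hA.2.1) hWS, ?_⟩
  refine Nat.le_of_mul_le_mul_right ?_ h3
  rw [h1]
  exact Nat.mul_le_mul_left _ h2

theorem BB.inf [Finite G] {S W A E F : Subgroup G} (hA : A ∈ AA S) (hWS : W ≤ S)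
    (hW : IsElementaryAbelian 2 W) (h : BB W A E) (h' : BB W A F) : BB W A (E ⊓ F) := by
  refine ⟨inf_le_left.trans h.1, le_antisymm ?_ ?_⟩
  · have h1 : Nat.card ↥(E ⊔ F) * Nat.card ↥(E ⊓ F) = Nat.card E * Nat.card F :=
      card_sup_comm fun a ha b hb => elem_comm hA.1 a (h.1 ha) b (h'.1 hb)
    have h2 : Nat.card ↥(cW W E ⊔ cW W F) * Nat.card ↥(cW W E ⊓ cW W F) =
        Nat.card (cW W E) * Nat.card (cW W F) :=
      card_sup_comm fun a ha b hb => elem_comm hW a (cW_le W E ha) b (cW_le W F hb)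
    have h3 : Nat.card ↥(cW W E ⊔ cW W F) ≤ Nat.card (cW W (E ⊓ F)) :=
      Subgroup.card_le_of_le (sup_le (cW_anti W inf_le_left) (cW_anti W inf_le_right))
    rw [← cW_sup] at h2
    have h4 := card_le hA hWS hW (sup_le h.1 h'.1)
    set m := Nat.card A * Nat.card (cW W A) with hm
    have hmpos : 0 < m := Nat.mul_pos Nat.card_pos Nat.card_pos
    refine Nat.le_of_mul_le_mul_right ?_ hmpos
    calc m * m = (Nat.card E * Nat.card (cW W E)) * (Nat.card F * Nat.card (cW W F)) := by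
          rw [← h.2, ← h'.2]
      _ = (Nat.card E * Nat.card F) * (Nat.card (cW W E) * Nat.card (cW W F)) := by ring
      _ = (Nat.card ↥(E ⊔ F) * Nat.card ↥(E ⊓ F)) *
          (Nat.card ↥(cW W E ⊔ cW W F) * Nat.card (cW W (E ⊔ F))) := by rw [h1, h2]
      _ = (Nat.card ↥(E ⊓ F) * Nat.card ↥(cW W E ⊔ cW W F)) *
          (Nat.card ↥(E ⊔ F) * Nat.card (cW W (E ⊔ F))) := by ring
      _ ≤ (Nat.card ↥(E ⊓ F) * Nat.card (cW W (E ⊓ F))) * m :=
          Nat.mul_le_mul (Nat.mul_le_mul_left _ h3) h4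
  · exact card_le hA hWS hW (inf_le_left.trans h.1)

/-! ### Abstract Baumann blocks -/

/-- The line `V ⊓ Z_J`. -/
def ln (S V : Subgroup G) : Subgroup G := V ⊓ zj S

theorem mem_ln {S V : Subgroup G} {v : G} : v ∈ ln S V ↔ v ∈ V ∧ v ∈ zj S := mem_inf

/-- An abstract Baumann block `(L, V)` over `B = bau S`, `P = QL S V = C_B(V)`. -/
structure Bk (S Y L V : Subgroup G) : Prop where
  BL : bau S ≤ L
  LY : L ≤ normalizer (Y : Set G)
  LV : L ≤ normalizer (V : Set G)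
  LP : L ≤ normalizer (QL S V : Set G)
  VY : V ≤ Y
  quad : ∀ b ∈ bau S, ∀ v ∈ V, b * v * b⁻¹ * v⁻¹ ∈ zj S
  cent : ∀ b ∈ bau S, b ∉ QL S V → ∀ v ∈ V, b * v = v * b → v ∈ zj S
  card : Nat.card (bau S) * Nat.card (ln S V) ≤ Nat.card (QL S V) * Nat.card V
  off : ∃ A ∈ AA S, ¬ A ≤ QL S V
  gen : ∀ x ∈ L, Mv (ln S V) x → ∀ X : Subgroup G, bau S ≤ X → cj x (bau S) ≤ X → L ≤ X
  split : ∀ z ∈ zj S, ∃ a ∈ ln S V, ∃ c ∈ zj S, (∀ l ∈ L, l * c = c * l) ∧ z = a * c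
  mv : ∀ x ∈ L, Mv (ln S V) x → ∀ e ∈ bau S, e ∉ QL S V → Mv (ln S V) (x * e * x⁻¹)
  faith : ∀ v ∈ V, ∀ b ∈ bau S, (∀ l ∈ L, l * (b * v * b⁻¹ * v⁻¹) = b * v * b⁻¹ * v⁻¹ * l) →
    b * v = v * b
  ne : ∃ x ∈ L, Mv (ln S V) x

theorem comm_iff {b v : G} : b * v = v * b ↔ b * v * b⁻¹ * v⁻¹ = 1 := by
  constructor
  · intro h; rw [h]; group
  · intro h
    calc b * v = (b * v * b⁻¹ * v⁻¹) * (v * b) := by group
      _ = v * b := by rw [h, one_mul]

namespace Bk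

variable {S Y L V W E : Subgroup G}

theorem PB : QL S V ≤ bau S := inf_le_left

theorem P_cent {p v : G} (hp : p ∈ QL S V) (hv : v ∈ V) : p * v = v * p := (mem_QL.1 hp).2 v hv

/-- The main order argument. -/
theorem order (k : Bk S Y L V) [Finite G] (hY : IsElementaryAbelian 2 Y) (hYS : Y ≤ S)
    (hVW : V ≤ W) (hWY : W ≤ Y) (hE : E ⊔ cW W E ∈ AA S) (hEP : ¬ E ≤ QL S V) :
    Nat.card E * Nat.card (ln S V) = Nat.card ↥(E ⊓ QL S V) * Nat.card V ∧
    (∀ b ∈ bau S, ∃ e ∈ E, ∃ p ∈ QL S V, b = e * p) ∧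
    cW W (E ⊓ QL S V) = V ⊔ cW W E ∧
    Nat.card E * Nat.card (cW W E) =
      Nat.card ↥(E ⊓ QL S V) * Nat.card (cW W (E ⊓ QL S V)) := by
  have hW := isElementaryAbelian_mono hY hWY
  have hWS := hWY.trans hYS
  have hE1 : E ≤ E ⊔ cW W E := le_sup_left
  have hE2 := isElementaryAbelian_mono hE.1 hE1
  have hEB : E ≤ bau S := hE1.trans ((le_jj hE).trans (jj_le_bau S))
  have hES : E ≤ S := hE1.trans hE.2.1
  set F := E ⊓ QL S V with hF
  have hFE : F ≤ E := inf_le_left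
  have hF2 := isElementaryAbelian_mono hE2 hFE
  -- `F ⊓ W = E ⊓ W`
  have hFW : F ⊓ W = E ⊓ W := by
    apply le_antisymm (inf_le_inf_right W hFE)
    rintro x ⟨h1, h2⟩
    exact ⟨⟨h1, mem_QL.2 ⟨hEB h1, fun v hv => elem_comm hY x (hWY h2) v (k.VY hv)⟩⟩, h2⟩
  have h1 : Nat.card F * Nat.card (cW W F) ≤ Nat.card E * Nat.card (cW W E) := by
    rw [← card_star hF2, ← card_star hE2, hFW]
    exact Nat.mul_le_mul_right _ (hE.2.2 _ (star_elem hF2 hW) (star_le (hFE.trans hES) hWS))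
  -- `C_V(E) ≤ line`
  obtain ⟨b, hb, hbP⟩ := SetLike.not_le_iff_exists.1 hEP
  have hVE : V ⊓ cW W E ≤ ln S V := by
    rintro v ⟨hv, hv2⟩
    exact mem_ln.2 ⟨hv, k.cent b (hEB hb) hbP v hv ((mem_cW.1 hv2).2 b hb)⟩
  have h2 : V ⊔ cW W E ≤ cW W F := by
    refine sup_le (fun v hv => mem_cW.2 ⟨hVW hv, fun e he => ?_⟩) (cW_anti W hFE)
    exact P_cent (mem_inf.1 he).2 hv
  have h3 : Nat.card ↥(V ⊔ cW W E) * Nat.card ↥(V ⊓ cW W E) = Nat.card V * Nat.card (cW W E) :=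
    card_sup_comm fun a ha c hc => elem_comm hW a (hVW ha) c (cW_le W E hc)
  -- `|E| / |F| ≤ |B| / |P|`
  have h4 : Nat.card ((E : Set G) * ((QL S V : Subgroup G) : Set G) : Set G) ≤
      Nat.card (bau S) := by
    refine Nat.card_mono (Set.toFinite _) ?_
    rintro _ ⟨e, he, p, hp, rfl⟩
    exact mul_mem (hEB he) (PB hp)
  have h5 := Cfsg.Agent.Lib.ProductSet.card_mul_card_inf E (QL S V)
  rw [← hF] at h5
  -- the numbers
  have pF : 0 < Nat.card F := Nat.card_pos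
  have pV : 0 < Nat.card V := Nat.card_pos
  have pP : 0 < Nat.card (QL S V) := Nat.card_pos
  have pE : 0 < Nat.card E := Nat.card_pos
  have pL : 0 < Nat.card (ln S V) := Nat.card_pos
  have pc : 0 < Nat.card (cW W E) := Nat.card_pos
  have hcB := k.card
  set cE := Nat.card E
  set cF := Nat.card F
  set cV := Nat.card V
  set cP := Nat.card (QL S V)
  set cB := Nat.card (bau S)
  set cl := Nat.card (ln S V)
  set cC := Nat.card (cW W E)
  set cD := Nat.card (cW W F)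
  set cEP := Nat.card ((E : Set G) * ((QL S V : Subgroup G) : Set G) : Set G)
  set cU := Nat.card ↥(V ⊔ cW W E)
  set cI := Nat.card ↥(V ⊓ cW W E)
  have hI : cI ≤ cl := Subgroup.card_le_of_le hVE
  have hU : cU ≤ cD := Subgroup.card_le_of_le h2
  -- (a) `cE * cl ≤ cF * cV`
  have ha : cE * cl ≤ cF * cV := by
    refine Nat.le_of_mul_le_mul_right ?_ pP
    calc cE * cl * cP = (cE * cP) * cl := by ring
      _ = cEP * cF * cl := by rw [← h5]
      _ ≤ cB * cF * cl := Nat.mul_le_mul_right _ (Nat.mul_le_mul_right _ h4)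
      _ = cF * (cB * cl) := by ring
      _ ≤ cF * (cP * cV) := Nat.mul_le_mul_left _ hcB
      _ = cF * cV * cP := by ring
  -- (b) `cF * cV ≤ cE * cl`
  have hb1 : cF * (cV * cC) ≤ cE * cl * cC := by
    calc cF * (cV * cC) = cF * (cU * cI) := by rw [h3]
      _ ≤ cF * (cD * cl) := Nat.mul_le_mul_left _ (Nat.mul_le_mul hU hI)
      _ = (cF * cD) * cl := by ring
      _ ≤ (cE * cC) * cl := Nat.mul_le_mul_right _ h1
      _ = cE * cl * cC := by ring
  have hb : cF * cV ≤ cE * cl := Nat.le_of_mul_le_mul_right (by rw [mul_assoc]; exact hb1) pc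
  have hab : cE * cl = cF * cV := le_antisymm ha hb
  -- equalities everywhere
  have e1 : cF * (cU * cI) = (cE * cC) * cl := by
    rw [h3]
    calc cF * (cV * cC) = cF * cV * cC := by ring
      _ = cE * cl * cC := by rw [hab]
      _ = _ := by ring
  have e2 : cF * cD * cl ≤ cF * (cU * cI) := by
    rw [e1]
    exact Nat.mul_le_mul_right _ h1
  have e3 : cD ≤ cU := by
    have h6 : cF * cD * cl ≤ cF * cU * cl := by
      refine e2.trans ?_
      rw [← mul_assoc]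
      exact Nat.mul_le_mul_left _ hI
    have h7 := Nat.le_of_mul_le_mul_right h6 pL
    exact Nat.le_of_mul_le_mul_left h7 pF
  have e4 : V ⊔ cW W E = cW W F := Subgroup.eq_of_le_of_card_ge h2 e3
  have e5 : cE * cC = cF * cD := by
    apply le_antisymm _ h1
    have h6 : (cE * cC) * cl ≤ (cF * cD) * cl := by
      rw [← e1]
      calc cF * (cU * cI) ≤ cF * (cD * cl) := Nat.mul_le_mul_left _ (Nat.mul_le_mul hU hI)
        _ = _ := by ring
    exact Nat.le_of_mul_le_mul_right h6 pL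
  have e6 : cB ≤ cEP := by
    have h6 : cB * (cF * cl) ≤ cEP * (cF * cl) := by
      calc cB * (cF * cl) = cF * (cB * cl) := by ring
        _ ≤ cF * (cP * cV) := Nat.mul_le_mul_left _ hcB
        _ = (cF * cV) * cP := by ring
        _ = (cE * cl) * cP := by rw [hab]
        _ = (cE * cP) * cl := by ring
        _ = cEP * cF * cl := by rw [← h5]
        _ = cEP * (cF * cl) := by ring
    exact Nat.le_of_mul_le_mul_right h6 (Nat.mul_pos pF pL)
  refine ⟨hab, ?_, e4.symm, e5⟩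
  have h8 : (E : Set G) * ((QL S V : Subgroup G) : Set G) = ((bau S : Subgroup G) : Set G) := by
    refine Set.eq_of_subset_of_ncard_le ?_ ?_ (Set.toFinite _)
    · rintro _ ⟨e, he, p, hp, rfl⟩
      exact mul_mem (hEB he) (PB hp)
    · rw [← Nat.card_coe_set_eq, ← Nat.card_coe_set_eq]
      exact e6
  intro b hb
  have h9 : b ∈ (E : Set G) * ((QL S V : Subgroup G) : Set G) := by rw [h8]; exact hb
  obtain ⟨e, he, p, hp, rfl⟩ := h9
  exact ⟨e, he, p, hp, rfl⟩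

end Bk

end Cfsg.Agent.Omega.NO3b.FPB.Base
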