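import Cfsg.Agent.Omega.NO3b.FPB.Claim

/-!
# THEOREM FPB (OMEGA #16134, helper526), part 3: case (ii) and the CLAIM
-/

set_option autoImplicit false

namespace Cfsg.Agent.Omega.NO3b.FPB.CaseTwo

open Subgroup Cfsg Cfsg.Agent.PLocal.ThompsonJ Cfsg.Agent.ZN Cfsg.Agent.ZN.ChoiceBase
open Cfsg.Agent.PLocal.ElemAbSup
open Cfsg.Agent.Omega.SQ1.Bau (mem_AA_of_comm zj_le_AA elem_comm elem_sq mem_sup_comm card_sup_comm
  mem_sup_norm Mv not_mv_iff mv_inv exists_min)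
open Cfsg.Agent.Omega.SQ1.BauK.InK (QL mem_QL not_QL)
open Cfsg.Agent.Omega.NO3b.FPB.Base Cfsg.Agent.Omega.NO3b.FPB.Claim
open scoped Pointwise

universe u

variable {G : Type u} [Group G] {S Y L L' V V' : Subgroup G}

theorem norm_of_conj {X : Subgroup G} [Finite G] {g : G} (hX : ∀ x ∈ X, g * x * g⁻¹ ∈ X) :
    g ∈ normalizer (X : Set G) := mem_normalizer_of_cj_le (by
    rintro _ ⟨v, hv, rfl⟩
    exact hX v hv)

/-- Case (ii), first half: `[V₂, P₁] ≤ C(L₁)`. -/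
theorem case_ii [Finite G] (hY : IsElementaryAbelian 2 Y) (k : Bk S Y L V)
    (k' : Bk S Y L' V') {E F : Subgroup G}
    (hEB : E ≤ bau S) (hEP : ¬ E ≤ QL S V) (hEb : ∀ b ∈ bau S, ∃ e ∈ E, ∃ p ∈ QL S V, b = e * p)
    (hF : ∀ c ∈ F, c ∈ Y ∧ ∀ e ∈ E, e * c = c * e)
    {x : G} (hx : x ∈ L) (hm : Mv (ln S V) x) (hxF : cj x V' ≤ V ⊔ F) :
    ∀ g ∈ QL S V, ∀ v ∈ V', g * v * g⁻¹ * v⁻¹ ∈ centralizer (L : Set G) := by
  have hYn : ∀ y ∈ L, cj y Y = Y := fun y hy => cj_eq_of_mem_normalizer (k.LY hy)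
  have hxY : cj x V' ≤ Y := by
    have := cj_mono x k'.VY
    rwa [hYn x hx] at this
  set U := V ⊔ cj x V' with hU
  have hUY : U ≤ Y := sup_le k.VY hxY
  have hUdec : ∀ u ∈ U, ∃ v ∈ V, ∃ w ∈ cj x V', u = v * w := fun u hu =>
    mem_sup_comm (fun a ha b hb => elem_comm hY a (k.VY ha) b (hxY hb)) hu
  have hVF : ∀ w ∈ cj x V', ∃ v ∈ V, ∃ c ∈ F, w = v * c := fun w hw =>
    mem_sup_comm (fun a ha b hb => elem_comm hY a (k.VY ha) b (hF b hb).1) (hxF hw)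
  have hEL : E ≤ L := hEB.trans k.BL
  -- `[U, E] ≤ V`
  have hUE : ∀ e ∈ E, ∀ u ∈ U, e * u * e⁻¹ * u⁻¹ ∈ V := by
    intro e he u hu
    obtain ⟨v, hv, w, hw, rfl⟩ := hUdec u hu
    obtain ⟨v1, hv1, c, hc, rfl⟩ := hVF w hw
    have h1 : e * (v * v1 * c) * e⁻¹ * (v * v1 * c)⁻¹ =
        e * (v * v1) * e⁻¹ * (v * v1)⁻¹ := comm_drop ((hF c hc).2 e he)
    rw [← mul_assoc v v1 c, h1]
    exact mul_mem (conj_mem_of_norm k.LV (hEL he) (mul_mem hv hv1)) (inv_mem (mul_mem hv hv1))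
  have hEU : ∀ e ∈ E, ∀ u ∈ U, e * u * e⁻¹ ∈ U := by
    intro e he u hu
    have h1 := mul_mem (mem_sup_left (hUE e he u hu) : _ ∈ U) hu
    rwa [inv_mul_cancel_right] at h1
  -- `x bau S x⁻¹` normalises `U`
  have hBx : cj x (bau S) ≤ normalizer (U : Set G) := by
    intro b hb
    refine norm_of_conj fun u hu => ?_
    obtain ⟨v, hv, w, hw, rfl⟩ := hUdec u hu
    have hbL : b ∈ L := by
      obtain ⟨b', hb', rfl⟩ := mem_cj_iff.1 hb
      exact mul_mem (mul_mem hx (k.BL hb')) (inv_mem hx)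
    have e1 : b * (v * w) * b⁻¹ = (b * v * b⁻¹) * (b * w * b⁻¹) := by group
    rw [e1]
    refine mul_mem (mem_sup_left (conj_mem_of_norm k.LV hbL hv)) (mem_sup_right ?_)
    obtain ⟨b', hb', rfl⟩ := mem_cj_iff.1 hb
    obtain ⟨w', hw', rfl⟩ := mem_cj_iff.1 hw
    have e2 : x * b' * x⁻¹ * (x * w' * x⁻¹) * (x * b' * x⁻¹)⁻¹ = x * (b' * w' * b'⁻¹) * x⁻¹ := by
      group
    rw [e2]
    exact conj_mem_cj (conj_mem_of_norm k'.LV (k'.BL hb') hw')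
  have hPx : ∀ p ∈ QL S V, p ∈ cj x (bau S) := fun p hp =>
    mem_cj.2 (Bk.PB (conj_mem_of_norm' k.LP hx hp))
  have hLU : L ≤ normalizer (U : Set G) := by
    refine k.gen x hx hm _ (fun b hb => ?_) hBx
    obtain ⟨e, he, p, hp, rfl⟩ := hEb b hb
    exact mul_mem (norm_of_conj (hEU e he)) (hBx (hPx p hp))
  -- `V' ≤ U`
  have hV'U : V' ≤ U := by
    intro v hv
    have h1 : x * v * x⁻¹ ∈ U := mem_sup_right (conj_mem_cj hv)
    have h2 := conj_mem_of_norm' hLU hx h1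
    have e1 : x⁻¹ * (x * v * x⁻¹) * x = v := by group
    rwa [e1] at h2
  obtain ⟨e, he, heP⟩ := SetLike.not_le_iff_exists.1 hEP
  have heB : e ∈ bau S := hEB he
  have heL : e ∈ L := k.BL heB
  set z := x * e * x⁻¹ with hz
  have hzL : z ∈ L := mul_mem (mul_mem hx heL) (inv_mem hx)
  have hzm : Mv (ln S V) z := k.mv x hx hm e heB heP
  have hzU : ∀ u ∈ U, z * u * z⁻¹ * u⁻¹ ∈ V := by
    intro u hu
    have h1 := hUE e he _ (conj_mem_of_norm' hLU hx hu)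
    have h2 := conj_mem_of_norm k.LV hx h1
    have e1 : x * (e * (x⁻¹ * u * x) * e⁻¹ * (x⁻¹ * u * x)⁻¹) * x⁻¹ = z * u * z⁻¹ * u⁻¹ := by
      rw [hz]; group
    rwa [e1] at h2
  intro g hg v hv
  have hvU := hV'U hv
  -- `w = z v z⁻¹ v⁻¹ ∈ V`
  have hw := hzU v hvU
  set w := z * v * z⁻¹ * v⁻¹ with hwdef
  have hgw : g * w = w * g := Bk.P_cent hg hw
  have hzv : z * v * z⁻¹ = w * v := by rw [hwdef]; group
  have hwv : w * v = v * w := elem_comm hY w (k.VY hw) v (k'.VY hv)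
  have h1 : g * (z * v * z⁻¹) * g⁻¹ * (z * v * z⁻¹)⁻¹ = g * v * g⁻¹ * v⁻¹ := by
    rw [hzv, hwv]; exact comm_drop hgw
  have hh : z⁻¹ * g * z ∈ QL S V := conj_mem_of_norm' k.LP hzL hg
  have h2 : z⁻¹ * (g * v * g⁻¹ * v⁻¹) * z =
      (z⁻¹ * g * z) * v * (z⁻¹ * g * z)⁻¹ * v⁻¹ := by
    rw [← h1]; group
  refine Bk.inter k hzL hzm (k'.quad g (Bk.PB hg) v hv) ?_
  rw [h2]
  exact k'.quad _ (Bk.PB hh) v hv

/-- Case (ii), second half. -/
theorem case_ii' [Finite G] (hY : IsElementaryAbelian 2 Y) (hYS : Y ≤ S) (k : Bk S Y L V)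
    (k' : Bk S Y L' V') (hne : QL S V ≠ QL S V')
    (h : ∀ g ∈ QL S V, ∀ v ∈ V', g * v * g⁻¹ * v⁻¹ ∈ centralizer (L : Set G)) :
    ∀ b ∈ bau S, ∀ v ∈ V', b * v * b⁻¹ * v⁻¹ ∈ centralizer (L : Set G) := by
  by_cases hcov : ∀ b ∈ bau S, ∃ p ∈ QL S V, ∃ p' ∈ QL S V', b = p * p'
  · intro b hb v hv
    obtain ⟨p, hp, p', hp', rfl⟩ := hcov b hb
    rw [comm_drop' (Bk.P_cent hp' hv)]
    exact h p hp v hv
  exfalso
  -- `A ≤ P₁ ↔ A ≤ P₂`
  have hstar : ∀ {A : Subgroup G}, A ∈ AA S → A ⊔ cW Y A ∈ AA S := fun hA =>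
    (BB.self Y _).star hA hYS hY
  have hA12 : ∀ A ∈ AA S, A ≤ QL S V → A ≤ QL S V' := by
    intro A hA hAP
    by_contra hAP'
    apply hcov
    obtain ⟨-, h1, -, -⟩ := k'.order hY hYS k'.VY le_rfl (hstar hA) hAP'
    intro b hb
    obtain ⟨a, ha, p, hp, rfl⟩ := h1 b hb
    exact ⟨a, hAP ha, p, hp, rfl⟩
  have hA21 : ∀ A ∈ AA S, A ≤ QL S V' → A ≤ QL S V := by
    intro A hA hAP'
    by_contra hAP
    apply hcov
    obtain ⟨-, h1, -, -⟩ := k.order hY hYS k.VY le_rfl (hstar hA) hAP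
    intro b hb
    obtain ⟨a, ha, p, hp, e⟩ := h1 b⁻¹ (inv_mem hb)
    refine ⟨p⁻¹, inv_mem hp, a⁻¹, inv_mem (hAP' ha), ?_⟩
    rw [← mul_inv_rev, ← e, inv_inv]
  obtain ⟨A, hA, hAP⟩ := k.off
  have hAP' : ¬ A ≤ QL S V' := fun h1 => hAP (hA21 A hA h1)
  obtain ⟨h1, h2, h3, h4⟩ := k.order hY hYS k.VY le_rfl (hstar hA) hAP
  obtain ⟨h1', h2', h3', h4'⟩ := k'.order hY hYS k'.VY le_rfl (hstar hA) hAP'
  have hi : A ⊓ QL S V ≤ QL S V' := by
    obtain ⟨h5, h6⟩ := star_conj hY hYS k le_rfl hA (D := A ⊓ QL S V) ⟨inf_le_left, h4⟩ inf_le_right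
      (one_mem L)
    rw [cj_one] at h5
    exact le_sup_left.trans (hA12 _ h5 h6)
  have hi' : A ⊓ QL S V' ≤ QL S V := by
    obtain ⟨h5, h6⟩ := star_conj hY hYS k' le_rfl hA (D := A ⊓ QL S V') ⟨inf_le_left, h4'⟩
      inf_le_right (one_mem L')
    rw [cj_one] at h5
    exact le_sup_left.trans (hA21 _ h5 h6)
  have hi2 : A ⊓ QL S V = A ⊓ QL S V' :=
    le_antisymm (le_inf inf_le_left hi) (le_inf inf_le_left hi')
  -- `|P₁| = |P₂|`
  have hcard : Nat.card (QL S V) = Nat.card (QL S V') := by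
    have hAB : A ≤ bau S := (le_jj hA).trans (jj_le_bau S)
    have e : ∀ {P : Subgroup G}, P ≤ bau S → (∀ b ∈ bau S, ∃ e ∈ A, ∃ p ∈ P, b = e * p) →
        Nat.card (bau S) * Nat.card ↥(A ⊓ P) = Nat.card A * Nat.card P := by
      intro P hP hPd
      have h5 := Cfsg.Agent.Lib.ProductSet.card_mul_card_inf A P
      have h6 : (A : Set G) * (P : Set G) = ((bau S : Subgroup G) : Set G) := by
        ext b
        constructor
        · rintro ⟨a, ha, p, hp, rfl⟩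
          exact mul_mem (hAB ha) (hP hp)
        · intro hb
          obtain ⟨a, ha, p, hp, rfl⟩ := hPd b hb
          exact ⟨a, ha, p, hp, rfl⟩
      rw [h6] at h5
      exact h5
    have e1 := e Bk.PB h2
    have e2 := e Bk.PB h2'
    rw [hi2, e2] at e1
    exact (Nat.eq_of_mul_eq_mul_left Nat.card_pos e1).symm
  have hnle : ¬ QL S V ≤ QL S V' := fun h5 => hne (Subgroup.eq_of_le_of_card_ge h5 hcard.ge)
  obtain ⟨g, hg, hg'⟩ := SetLike.not_le_iff_exists.1 hnle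
  obtain ⟨a, ha, p, hp, e⟩ := h2' g (Bk.PB hg)
  have haB : a ∈ bau S := jj_le_bau S (le_jj hA ha)
  have haP' : a ∉ QL S V' := fun h5 => hg' (by rw [e]; exact mul_mem h5 hp)
  apply haP'
  refine mem_QL.2 ⟨haB, fun v hv => ?_⟩
  -- `v = v₁ c`
  have hvc : v ∈ V ⊔ cW Y A := by
    rw [← h3, hi2, h3']
    exact mem_sup_left hv
  obtain ⟨v1, hv1, c, hc, rfl⟩ := mem_sup_comm
    (fun a ha b hb => elem_comm hY a (k.VY ha) b (cW_le Y A hb)) hvc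
  have h5 := h g hg _ hv
  rw [e, comm_drop' (Bk.P_cent hp hv), comm_drop ((mem_cW.1 hc).2 a ha)] at h5
  have h6 := k.faith v1 hv1 a haB fun l hl => (mem_centralizer_iff.1 h5 l hl)
  have h7 := (mem_cW.1 hc).2 a ha
  calc a * (v1 * c) = (a * v1) * c := by group
    _ = v1 * (a * c) := by rw [h6]; group
    _ = v1 * c * a := by rw [h7]; group

/-- **CLAIM.** `P₁ ≠ P₂ ⇒ [V₂, B] ≤ C(L₁)`. -/
theorem claim [Finite G] (hY : IsElementaryAbelian 2 Y) (hYS : Y ≤ S) (k : Bk S Y L V)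
    (k' : Bk S Y L' V') (hne : QL S V ≠ QL S V') :
    ∀ b ∈ bau S, ∀ v ∈ V', b * v * b⁻¹ * v⁻¹ ∈ centralizer (L : Set G) := by
  have hYn : ∀ y ∈ L, cj y Y = Y := fun y hy => cj_eq_of_mem_normalizer (k.LY hy)
  set W : Subgroup G := V ⊔ ⨆ y : L, cj (y : G) V' with hWdef
  have hVW : V ≤ W := le_sup_left
  have hVW' : ∀ y ∈ L, cj y V' ≤ W := fun y hy =>
    (le_iSup (fun y : L => cj (y : G) V') ⟨y, hy⟩).trans le_sup_right
  have hWmin : ∀ X : Subgroup G, V ≤ X → (∀ y ∈ L, cj y V' ≤ X) → W ≤ X := fun X h1 h2 =>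
    sup_le h1 (iSup_le fun y => h2 y y.2)
  have hWY : W ≤ Y := hWmin Y k.VY fun y hy => by
    have := cj_mono y k'.VY
    rwa [hYn y hy] at this
  have hWn : L ≤ normalizer (W : Set G) := by
    intro l hl
    refine mem_normalizer_of_cj_le ?_
    rw [cj_le_iff]
    refine hWmin _ ?_ fun y hy => ?_
    · rw [← cj_le_iff, cj_eq_of_mem_normalizer (k.LV hl)]
      exact hVW
    · rw [← cj_le_iff, cj_cj]
      exact hVW' _ (mul_mem hl hy)
  have hW := isElementaryAbelian_mono hY hWY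
  have hWS := hWY.trans hYS
  obtain ⟨A, hA, hAP⟩ := k.off
  have hAB : A ≤ bau S := (le_jj hA).trans (jj_le_bau S)
  obtain ⟨h1, h2, h3, h4⟩ := k.order hY hYS hVW hWY ((BB.self W A).star hA hWS hW) hAP
  by_cases hcase : ∃ x ∈ L, Mv (ln S V) x ∧ ¬ A ⊓ QL S V ≤ cj x (QL S V')
  · obtain ⟨x, hx, hm, hnle⟩ := hcase
    exact case_i hY hYS k k' hWY hVW' hWmin hWn hA (BB.self W A) hAP ⟨inf_le_left, h4⟩ hx hm hnle
  · push Not at hcase
    obtain ⟨x, hx, hm⟩ := k.ne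
    refine case_ii' hY hYS k k' hne ?_
    refine case_ii hY k k' (E := A) (F := cW W A) hAB hAP h2
      (fun c hc => ⟨hWY (cW_le W A hc), (mem_cW.1 hc).2⟩) hx hm ?_
    rw [← h3]
    intro v hv
    refine mem_cW.2 ⟨hVW' x hx hv, fun e he => ?_⟩
    obtain ⟨e', he', rfl⟩ := mem_cj_iff.1 (hcase x hx hm he)
    obtain ⟨v', hv', rfl⟩ := mem_cj_iff.1 hv
    exact comm_conj (Bk.P_cent he' hv')

end Cfsg.Agent.Omega.NO3b.FPB.CaseTwo
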