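import Cfsg.Agent.Omega.NO3b.FPB.Base

/-!
# THEOREM FPB (OMEGA #16134, helper526), part 2: the CLAIM

Two blocks `(L₁,V₁)`, `(L₂,V₂)` over `B = bau S` with different `P₁ = C_B(V₁) ≠ P₂ = C_B(V₂)`:
`[V₂,B] ≤ C(L₁)`.
-/

set_option autoImplicit false

namespace Cfsg.Agent.Omega.NO3b.FPB.Claim

open Subgroup Cfsg Cfsg.Agent.PLocal.ThompsonJ Cfsg.Agent.ZN Cfsg.Agent.ZN.ChoiceBase
open Cfsg.Agent.PLocal.ElemAbSup
open Cfsg.Agent.Omega.SQ1.Bau (mem_AA_of_comm zj_le_AA elem_comm elem_sq mem_sup_comm card_sup_comm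
  mem_sup_norm Mv not_mv_iff mv_inv exists_min)
open Cfsg.Agent.Omega.SQ1.BauK.InK (QL mem_QL not_QL)
open Cfsg.Agent.Omega.NO3b.FPB.Base
open scoped Pointwise

universe u

variable {G : Type u} [Group G]

theorem mem_cj_iff {g x : G} {H : Subgroup G} : x ∈ cj g H ↔ ∃ y ∈ H, x = g * y * g⁻¹ := by
  rw [mem_cj]
  constructor
  · intro h
    exact ⟨_, h, by group⟩
  · rintro ⟨y, hy, rfl⟩
    have : g⁻¹ * (g * y * g⁻¹) * g = y := by group
    rwa [this]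

theorem conj_mem_cj {g y : G} {H : Subgroup G} (hy : y ∈ H) : g * y * g⁻¹ ∈ cj g H :=
  mem_cj_iff.2 ⟨y, hy, rfl⟩

theorem conj_mem_cj_iff {g y : G} {H : Subgroup G} : g * y * g⁻¹ ∈ cj g H ↔ y ∈ H := by
  rw [mem_cj]
  have : g⁻¹ * (g * y * g⁻¹) * g = y := by group
  rw [this]

theorem Mv_cj {g x : G} {U : Subgroup G} : Mv (cj g U) (g * x * g⁻¹) ↔ Mv U x := by
  constructor
  · rintro ⟨v, hv, h⟩
    obtain ⟨w, hw, rfl⟩ := mem_cj_iff.1 hv
    refine ⟨w, hw, fun h1 => h ?_⟩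
    have e : g * x * g⁻¹ * (g * w * g⁻¹) * (g * x * g⁻¹)⁻¹ = g * (x * w * x⁻¹) * g⁻¹ := by group
    rw [e]
    exact conj_mem_cj h1
  · rintro ⟨v, hv, h⟩
    refine ⟨_, conj_mem_cj (g := g) hv, fun h1 => h ?_⟩
    have e : g * x * g⁻¹ * (g * v * g⁻¹) * (g * x * g⁻¹)⁻¹ = g * (x * v * x⁻¹) * g⁻¹ := by group
    rw [e] at h1
    exact conj_mem_cj_iff.1 h1

theorem QL_cj (g : G) (S V : Subgroup G) : QL (cj g S) (cj g V) = cj g (QL S V) := by
  unfold QL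
  rw [bau_cj, ← cj_centralizer, ← cj_inf]

theorem ln_cj (g : G) (S V : Subgroup G) : ln (cj g S) (cj g V) = cj g (ln S V) := by
  unfold ln
  rw [zj_cj, ← cj_inf]

theorem comm_conj {g a b : G} (h : a * b = b * a) :
    g * a * g⁻¹ * (g * b * g⁻¹) = g * b * g⁻¹ * (g * a * g⁻¹) := by
  calc g * a * g⁻¹ * (g * b * g⁻¹) = g * (a * b) * g⁻¹ := by group
    _ = g * (b * a) * g⁻¹ := by rw [h]
    _ = _ := by group

theorem comm_conj_iff {g a b : G} :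
    g * a * g⁻¹ * (g * b * g⁻¹) = g * b * g⁻¹ * (g * a * g⁻¹) ↔ a * b = b * a := by
  refine ⟨fun h => ?_, comm_conj⟩
  have := comm_conj (g := g⁻¹) h
  have e : ∀ a : G, g⁻¹ * (g * a * g⁻¹) * g⁻¹⁻¹ = a := fun a => by group
  rwa [e, e] at this

theorem comm_el {g b v : G} : g * b * g⁻¹ * (g * v * g⁻¹) * (g * b * g⁻¹)⁻¹ * (g * v * g⁻¹)⁻¹ =
    g * (b * v * b⁻¹ * v⁻¹) * g⁻¹ := by group

/-- Conjugating a block. -/
theorem Bk.conj {S Y L V : Subgroup G} (k : Bk S Y L V) [Finite G] {g : G} (hg : cj g Y = Y) :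
    Bk (cj g S) Y (cj g L) (cj g V) where
  BL := by rw [bau_cj]; exact cj_mono g k.BL
  LY := by
    have := cj_mono g k.LY
    rwa [cj_normalizer, hg] at this
  LV := by
    have := cj_mono g k.LV
    rwa [cj_normalizer] at this
  LP := by
    have := cj_mono g k.LP
    rwa [cj_normalizer, ← QL_cj] at this
  VY := by
    have := cj_mono g k.VY
    rwa [hg] at this
  quad := by
    intro b hb v hv
    rw [bau_cj] at hb
    obtain ⟨b, hb0, rfl⟩ := mem_cj_iff.1 hb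
    obtain ⟨v, hv0, rfl⟩ := mem_cj_iff.1 hv
    rw [comm_el, zj_cj]
    exact conj_mem_cj (k.quad b hb0 v hv0)
  cent := by
    intro b hb hbP v hv hbv
    rw [bau_cj] at hb
    obtain ⟨b, hb0, rfl⟩ := mem_cj_iff.1 hb
    obtain ⟨v, hv0, rfl⟩ := mem_cj_iff.1 hv
    rw [QL_cj, conj_mem_cj_iff] at hbP
    rw [comm_conj_iff] at hbv
    rw [zj_cj]
    exact conj_mem_cj (k.cent b hb0 hbP v hv0 hbv)
  card := by
    rw [bau_cj, QL_cj, ln_cj, card_cj, card_cj, card_cj, card_cj]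
    exact k.card
  off := by
    obtain ⟨A, hA, hAP⟩ := k.off
    refine ⟨cj g A, cj_mem_AA g hA, fun h => hAP ?_⟩
    rw [QL_cj] at h
    intro a ha
    exact conj_mem_cj_iff.1 (h (conj_mem_cj ha))
  gen := by
    intro x hx hm X hX1 hX2
    obtain ⟨x, hx0, rfl⟩ := mem_cj_iff.1 hx
    rw [ln_cj, Mv_cj] at hm
    rw [bau_cj] at hX1 hX2
    rw [cj_cj] at hX2
    rw [cj_le_iff] at hX1 ⊢
    refine k.gen x hx0 hm _ hX1 ?_
    have h1 := cj_mono g⁻¹ hX2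
    rw [cj_cj] at h1
    have e : g⁻¹ * (g * x * g⁻¹ * g) = x := by group
    rwa [e] at h1
  split := by
    intro z hz
    rw [zj_cj] at hz
    obtain ⟨z, hz0, rfl⟩ := mem_cj_iff.1 hz
    obtain ⟨a, ha, c, hc, hlc, rfl⟩ := k.split z hz0
    refine ⟨g * a * g⁻¹, by rw [ln_cj]; exact conj_mem_cj ha, g * c * g⁻¹,
      by rw [zj_cj]; exact conj_mem_cj hc, fun l hl => ?_, by group⟩
    obtain ⟨l, hl0, rfl⟩ := mem_cj_iff.1 hl
    exact comm_conj (hlc l hl0)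
  mv := by
    intro x hx hm e he heP
    obtain ⟨x, hx0, rfl⟩ := mem_cj_iff.1 hx
    rw [ln_cj, Mv_cj] at hm
    rw [bau_cj] at he
    obtain ⟨e, he0, rfl⟩ := mem_cj_iff.1 he
    rw [QL_cj, conj_mem_cj_iff] at heP
    have h1 : g * x * g⁻¹ * (g * e * g⁻¹) * (g * x * g⁻¹)⁻¹ = g * (x * e * x⁻¹) * g⁻¹ := by group
    rw [h1, ln_cj, Mv_cj]
    exact k.mv x hx0 hm e he0 heP
  faith := by
    intro v hv b hb h
    rw [bau_cj] at hb
    obtain ⟨b, hb0, rfl⟩ := mem_cj_iff.1 hb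
    obtain ⟨v, hv0, rfl⟩ := mem_cj_iff.1 hv
    refine comm_conj (k.faith v hv0 b hb0 fun l hl => ?_)
    have h1 := h (g * l * g⁻¹) (conj_mem_cj hl)
    rw [comm_el] at h1
    exact comm_conj_iff.1 h1
  ne := by
    obtain ⟨x, hx, hm⟩ := k.ne
    exact ⟨g * x * g⁻¹, conj_mem_cj hx, by rw [ln_cj, Mv_cj]; exact hm⟩

/-- `Z_J ⊓ Z_J^x ≤ C(L)`. -/
theorem Bk.inter {S Y L V : Subgroup G} (k : Bk S Y L V) {x z : G} (hx : x ∈ L)
    (hm : Mv (ln S V) x) (hz : z ∈ zj S) (hz' : x⁻¹ * z * x ∈ zj S) : z ∈ centralizer (L : Set G) := by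
  have h1 : L ≤ centralizer ({z} : Set G) := by
    refine k.gen x hx hm _ (fun b hb => mem_centralizer_iff.2 fun y hy => ?_) ?_
    · rw [show y = z from hy]
      exact (mem_bau.1 hb).2 z hz
    · intro b hb
      obtain ⟨b, hb0, rfl⟩ := mem_cj_iff.1 hb
      rw [mem_centralizer_iff]
      intro y hy
      rw [show y = z from hy]
      have h2 := (mem_bau.1 hb0).2 _ hz'
      have h3 := comm_conj (g := x) h2
      have e : x * (x⁻¹ * z * x) * x⁻¹ = z := by group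
      rwa [e] at h3
  rw [mem_centralizer_iff]
  intro l hl
  exact (mem_centralizer_iff.1 (h1 hl) z rfl).symm

theorem conj_mem_of_norm {H K : Subgroup G} (h : H ≤ normalizer (K : Set G)) {x y : G} (hx : x ∈ H)
    (hy : y ∈ K) : x * y * x⁻¹ ∈ K := (mem_normalizer_iff.1 (h hx) y).1 hy

theorem conj_mem_of_norm' {H K : Subgroup G} (h : H ≤ normalizer (K : Set G)) {x y : G} (hx : x ∈ H)
    (hy : y ∈ K) : x⁻¹ * y * x ∈ K := by
  have := (mem_normalizer_iff.1 (h (inv_mem hx)) y).1 hy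
  rwa [inv_inv] at this

/-- `[w c, ..]`: `d (v c) d⁻¹ (v c)⁻¹ = d v d⁻¹ v⁻¹` if `d` commutes with `c`. -/
theorem comm_drop {d v c : G} (h : d * c = c * d) :
    d * (v * c) * d⁻¹ * (v * c)⁻¹ = d * v * d⁻¹ * v⁻¹ := by
  calc d * (v * c) * d⁻¹ * (v * c)⁻¹ = d * v * (c * d⁻¹) * c⁻¹ * v⁻¹ := by group
    _ = d * v * (d⁻¹ * c) * c⁻¹ * v⁻¹ := by
      rw [show c * d⁻¹ = d⁻¹ * c from ((show Commute d c from h).inv_left).symm]
    _ = _ := by group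

/-- `(p q) v (p q)⁻¹ v⁻¹ = p v p⁻¹ v⁻¹` if `q` commutes with `v`. -/
theorem comm_drop' {p q v : G} (h : q * v = v * q) :
    p * q * v * (p * q)⁻¹ * v⁻¹ = p * v * p⁻¹ * v⁻¹ := by
  calc p * q * v * (p * q)⁻¹ * v⁻¹ = p * (q * v) * q⁻¹ * p⁻¹ * v⁻¹ := by group
    _ = p * (v * q) * q⁻¹ * p⁻¹ * v⁻¹ := by rw [h]
    _ = _ := by group

section

variable {S Y L L' V V' : Subgroup G}

/-- `(A ⊓ P)*` etc.: `D C_W(D) ∈ A(S^x)` if `D ≤ P`. -/
theorem star_conj [Finite G] (hY : IsElementaryAbelian 2 Y) (hYS : Y ≤ S) (k : Bk S Y L V)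
    {W A D : Subgroup G} (hWY : W ≤ Y) (hA : A ∈ AA S) (hD : BB W A D) (hDP : D ≤ QL S V) {x : G}
    (hx : x ∈ L) : D ⊔ cW W D ∈ AA (cj x S) ∧ D ⊔ cW W D ≤ QL S V := by
  have hW := isElementaryAbelian_mono hY hWY
  have h1 := hD.star hA (hWY.trans hYS) hW
  have h2 : D ⊔ cW W D ≤ QL S V := by
    refine sup_le hDP fun c hc => mem_QL.2 ⟨jj_le_bau S (le_jj h1 (mem_sup_right hc)), fun v hv => ?_⟩
    exact elem_comm hY c (hWY (cW_le W D hc)) v (k.VY hv)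
  refine ⟨?_, h2⟩
  rw [mem_AA_iff, mm_cj]
  refine ⟨h1.1, ?_, (mm_eq h1).le⟩
  intro y hy
  have h3 := conj_mem_of_norm' k.LP hx (h2 hy)
  exact mem_cj.2 (bau_le S (Bk.PB h3))

/-- CLAIM, case (i). -/
theorem case_i [Finite G] (hY : IsElementaryAbelian 2 Y) (hYS : Y ≤ S) (k : Bk S Y L V)
    (k' : Bk S Y L' V') {W A E : Subgroup G} (hWY : W ≤ Y)
    (hVW' : ∀ y ∈ L, cj y V' ≤ W) (hWmin : ∀ X : Subgroup G, V ≤ X → (∀ y ∈ L, cj y V' ≤ X) → W ≤ X)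
    (hWn : L ≤ normalizer (W : Set G))
    (hA : A ∈ AA S) (hE : BB W A E) (hEP : ¬ E ≤ QL S V) (hE0 : BB W A (E ⊓ QL S V))
    {x : G} (hx : x ∈ L) (hm : Mv (ln S V) x) (hnle : ¬ E ⊓ QL S V ≤ cj x (QL S V')) :
    ∀ b ∈ bau S, ∀ v ∈ V', b * v * b⁻¹ * v⁻¹ ∈ centralizer (L : Set G) := by
  have hW := isElementaryAbelian_mono hY hWY
  have hWS := hWY.trans hYS
  have hYn : ∀ y ∈ L, cj y Y = Y := fun y hy => cj_eq_of_mem_normalizer (k.LY hy)
  have hcb : ∀ y ∈ L, ∀ p ∈ QL S V, p ∈ cj y (bau S) := fun y hy p hp =>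
    mem_cj.2 (Bk.PB (conj_mem_of_norm' k.LP hy hp))
  -- the minimal `D`
  obtain ⟨D, ⟨hD1, hD2, hD3⟩, -, hDmin⟩ := exists_min
    (fun D : Subgroup G => BB W A D ∧ D ≤ E ⊓ QL S V ∧ ¬ D ≤ cj x (QL S V'))
    (X := E ⊓ QL S V) ⟨hE0, le_rfl, hnle⟩
  have hDP : D ≤ QL S V := hD2.trans inf_le_right
  have hord : ∀ y ∈ L, ¬ D ≤ cj y (QL S V') →
      Nat.card D * Nat.card (ln S V') = Nat.card ↥(D ⊓ cj y (QL S V')) * Nat.card V' ∧
      (∀ b ∈ cj y (bau S), ∃ e ∈ D, ∃ p ∈ cj y (QL S V'), b = e * p) ∧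
      cW W (D ⊓ cj y (QL S V')) = cj y V' ⊔ cW W D ∧ BB W A (D ⊓ cj y (QL S V')) := by
    intro y hy hny
    have h1 := (Bk.conj k' (hYn y hy)).order hY (W := W) (E := D) ?_ (hVW' y hy) hWY
      (star_conj hY hYS k hWY hA hD1 hDP hy).1 (by rw [QL_cj]; exact hny)
    · rw [QL_cj, ln_cj, card_cj, card_cj, bau_cj] at h1
      obtain ⟨h2, h3, h4, h5⟩ := h1
      exact ⟨h2, h3, h4, inf_le_left.trans hD1.1, by rw [hD1.2, h5]⟩
    · have := cj_mono y hYS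
      rwa [hYn y hy] at this
  have hposV : 0 < Nat.card V' := Nat.card_pos
  -- `D ⊓ P₂^x` centralises `W`
  have hcent : W ≤ centralizer ((D ⊓ cj x (QL S V') : Subgroup G) : Set G) := by
    refine hWmin _ (fun v hv => mem_centralizer_iff.2 fun d hd => ?_) (fun y hy v hv =>
      mem_centralizer_iff.2 fun d hd => ?_)
    · exact Bk.P_cent (hDP (mem_inf.1 hd).1) hv
    · have hdy : d ∈ cj y (QL S V') := by
        by_cases hny : D ≤ cj y (QL S V')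
        · exact hny (mem_inf.1 hd).1
        · obtain ⟨h1, -, -, h4⟩ := hord y hy hny
          obtain ⟨h1', -, -, -⟩ := hord x hx hD3
          have h5 : D ⊓ cj y (QL S V') ≤ cj x (QL S V') := by
            by_contra hcon
            have h6 := hDmin (D ⊓ cj y (QL S V')) ⟨h4, inf_le_left.trans hD2, hcon⟩ inf_le_left
            exact hny (h6.trans inf_le_right)
          have h6 : D ⊓ cj y (QL S V') = D ⊓ cj x (QL S V') := by
            refine Subgroup.eq_of_le_of_card_ge (le_inf inf_le_left h5) ?_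
            have h7 : Nat.card ↥(D ⊓ cj x (QL S V')) * Nat.card V' =
                Nat.card ↥(D ⊓ cj y (QL S V')) * Nat.card V' := by rw [← h1, ← h1']
            exact (Nat.eq_of_mul_eq_mul_right hposV h7).le
          rw [← h6] at hd
          exact (mem_inf.1 hd).2
      obtain ⟨d', hd', rfl⟩ := mem_cj_iff.1 hdy
      obtain ⟨v', hv', rfl⟩ := mem_cj_iff.1 hv
      exact comm_conj (Bk.P_cent hd' hv')
  obtain ⟨-, hD4, hD5, -⟩ := hord x hx hD3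
  have hWdec : ∀ w ∈ W, ∃ v ∈ cj x V', ∃ c ∈ cW W D, w = v * c := by
    intro w hw
    have h1 : w ∈ cW W (D ⊓ cj x (QL S V')) :=
      mem_cW.2 ⟨hw, fun e he => mem_centralizer_iff.1 (hcent hw) e he⟩
    rw [hD5] at h1
    exact mem_sup_comm (fun a ha c hc => elem_comm hW a (hVW' x hx ha) c (cW_le W D hc)) h1
  -- the elements `d v d⁻¹ v⁻¹`
  obtain ⟨e, he, heP⟩ := SetLike.not_le_iff_exists.1 hEP
  have heB : e ∈ bau S := jj_le_bau S (le_jj hA (hE.1 he))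
  have heL : e ∈ L := k.BL heB
  have hzj : ∀ d ∈ D, ∀ v ∈ cj x V', d * v * d⁻¹ * v⁻¹ ∈ cj x (zj S) := by
    intro d hd v hv
    obtain ⟨d', hd', rfl⟩ := mem_cj_iff.1 (hcb x hx d (hDP hd))
    obtain ⟨v', hv', rfl⟩ := mem_cj_iff.1 hv
    rw [comm_el]
    exact conj_mem_cj (k'.quad d' hd' v' hv')
  have key : ∀ d ∈ D, ∀ v ∈ cj x V', d * v * d⁻¹ * v⁻¹ ∈ centralizer (L : Set G) := by
    intro d hd v hv
    have hz := hzj d hd v hv
    -- the conjugate by `e`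
    have hde : e * d = d * e := elem_comm hA.1 e (hE.1 he) d (hE.1 (mem_inf.1 (hD2 hd)).1)
    have hw : e * v * e⁻¹ ∈ W := conj_mem_of_norm hWn heL (hVW' x hx hv)
    obtain ⟨v', hv', c', hc', e1⟩ := hWdec _ hw
    have hdc : d * c' = c' * d := (mem_cW.1 hc').2 d hd
    have hze : e * (d * v * d⁻¹ * v⁻¹) * e⁻¹ = d * v' * d⁻¹ * v'⁻¹ := by
      have e2 : e * (d * v * d⁻¹ * v⁻¹) * e⁻¹ =
          (e * d * e⁻¹) * (e * v * e⁻¹) * (e * d * e⁻¹)⁻¹ * (e * v * e⁻¹)⁻¹ := by group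
      have e3 : e * d * e⁻¹ = d := by rw [hde]; group
      rw [e2, e3, e1, comm_drop hdc]
    have hz' : e * (d * v * d⁻¹ * v⁻¹) * e⁻¹ ∈ cj x (zj S) := by
      rw [hze]; exact hzj d hd v' hv'
    set z := d * v * d⁻¹ * v⁻¹ with hzdef
    -- split `z`
    obtain ⟨z0, hz0, ez⟩ := mem_cj_iff.1 hz
    obtain ⟨a, ha, c, hc, hlc, rfl⟩ := k.split z0 hz0
    have hxc : x * c * x⁻¹ = c := by rw [hlc x hx]; group
    have ez2 : z = (x * a * x⁻¹) * c := by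
      rw [ez]
      calc x * (a * c) * x⁻¹ = (x * a * x⁻¹) * (x * c * x⁻¹) := by group
        _ = _ := by rw [hxc]
    set z1 := x * a * x⁻¹ with hz1
    have hz1V : z1 ∈ V := conj_mem_of_norm k.LV hx (mem_ln.1 ha).1
    have hec : e * c * e⁻¹ = c := by rw [hlc e heL]; group
    have ez3 : e * z * e⁻¹ = (e * z1 * e⁻¹) * c := by
      rw [ez2]
      calc e * (z1 * c) * e⁻¹ = (e * z1 * e⁻¹) * (e * c * e⁻¹) := by group
        _ = _ := by rw [hec]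
    have hcz : c ∈ cj x (zj S) := mem_cj_iff.2 ⟨c, hc, hxc.symm⟩
    have hz1' : e * z1 * e⁻¹ ∈ cj x (zj S) := by
      rw [ez3] at hz'
      have := mul_mem hz' (inv_mem hcz)
      rwa [mul_inv_cancel_right] at this
    -- `t = x⁻¹ (e z1 e⁻¹) x`
    have hcen : x⁻¹ * (e * z1 * e⁻¹) * x ∈ centralizer (L : Set G) := by
      have hmx : Mv (ln S V) x⁻¹ := mv_inv.2 hm
      have hmv := k.mv x⁻¹ (inv_mem hx) hmx e heB heP
      have hyL : x⁻¹ * e * x⁻¹⁻¹ ∈ L := mul_mem (mul_mem (inv_mem hx) heL) (inv_mem (inv_mem hx))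
      refine Bk.inter k hyL hmv (mem_cj.1 hz1') ?_
      have e4 : (x⁻¹ * e * x⁻¹⁻¹)⁻¹ * (x⁻¹ * (e * z1 * e⁻¹) * x) * (x⁻¹ * e * x⁻¹⁻¹) = a := by
        rw [hz1]; group
      rw [e4]
      exact (mem_ln.1 ha).2
    have hLc : L ≤ normalizer (centralizer (L : Set G) : Set G) := by
      intro l hl
      rw [mem_normalizer_iff_cj, cj_centralizer]
      congr 1
      exact_mod_cast cj_eq_of_mem_normalizer (Subgroup.le_normalizer hl)
    have h8 : z1 ∈ centralizer (L : Set G) := by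
      have h9 := conj_mem_of_norm hLc (mul_mem (inv_mem heL) hx) hcen
      have e5 : e⁻¹ * x * (x⁻¹ * (e * z1 * e⁻¹) * x) * (e⁻¹ * x)⁻¹ = z1 := by group
      rwa [e5] at h9
    rw [ez2]
    refine mul_mem h8 (mem_centralizer_iff.2 fun l hl => hlc l hl)
  -- conclusion
  intro b hb v hv
  obtain ⟨d, hd, p, hp, e1⟩ := hD4 (x * b * x⁻¹) (conj_mem_cj hb)
  have hpv : p * (x * v * x⁻¹) = x * v * x⁻¹ * p := by
    obtain ⟨p', hp', rfl⟩ := mem_cj_iff.1 hp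
    exact comm_conj (Bk.P_cent hp' hv)
  have h1 := key d hd (x * v * x⁻¹) (conj_mem_cj hv)
  rw [← comm_drop' hpv, ← e1, comm_el] at h1
  rw [mem_centralizer_iff] at h1 ⊢
  intro l hl
  have h2 := h1 (x * l * x⁻¹) (mul_mem (mul_mem hx hl) (inv_mem hx))
  exact comm_conj_iff.1 h2

end

end Cfsg.Agent.Omega.NO3b.FPB.Claim
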