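import Cfsg.Agent.Omega.NO3b.FPB.SymIn

/-!
# THEOREM FPB (OMEGA #16134, helper526): the Baumann input of an arbitrary minimal parabolic from `FFThm.Stmt`

`T` is a Sylow 2-subgroup of `H`, `H` a minimal parabolic over `T`, `C_H(O₂(H)) ≤ O₂(H)`, `V = zl T H`,
`J(T) ≰ O₂(H)`.

* `exists_off`: if `C_H(V) T ≠ H` then some `A ∈ A(T)` is an offender on `V`;
* `of_stmt` : the FF theorem gives `InK` or `BauS.In`, if `C_H(V) T ≠ H`;
* `oddGen_le_cent`, `zc_cent` : if `C_H(V) T = H` then `O²(H)` centralises `V ≥ Ω₁(Z(T))`.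
-/

set_option autoImplicit false

namespace Cfsg.Agent.Omega.NO3b.FPB.OfStmt

open Subgroup Cfsg Cfsg.Agent.PLocal.ThompsonJ Cfsg.Agent.ZN Cfsg.Agent.ZN.ChoiceBase
open Cfsg.Agent.ZN.ChoiceSit
open Cfsg.Agent.Omega.SQ1 Cfsg.Agent.Omega.SQ1.FFOne Cfsg.Agent.Omega.SQ1.VOf
open Cfsg.Agent.Omega.FFThm (SymK NatK NoOver Off)
open Cfsg.Agent.Omega.FrameFF (cv)
open Cfsg.Agent.MinSimple.MinParabolic (IsMinPar)
open Cfsg.Agent.MinSimple.VModule (oddGen)

universe v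

variable {G : Type v} [Group G] {T H : Subgroup G}

/-- `C_T(V) ≤ O₂(H)` -/
theorem cT (hm : MinH H T) [Finite G] (hne : (H ⊓ centralizer (zl T H : Set G)) ⊔ T ≠ H) {t : G}
    (ht : t ∈ T) (hc : ∀ v ∈ zl T H, t * v = v * t) : t ∈ o2 H :=
  hm.inf_le inf_le_left cent_norm hne
    ⟨ht, hm.syl.1 ht, mem_centralizer_iff.2 fun v hv => (hc v hv).symm⟩

/-- Some `A ∈ A(T)` is an offender on `V`. -/
theorem exists_off (hm : MinH H T) [Finite G] (hne : (H ⊓ centralizer (zl T H : Set G)) ⊔ T ≠ H)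
    (hJ : ¬ jj T ≤ o2 H) : ∃ A ∈ AA T, Off (zl T H) A := by
  by_contra hcon
  push Not at hcon
  apply hJ
  intro j hj
  refine cT hm hne (jj_le T hj) ?_
  have hle : jj T ≤ centralizer (zl T H : Set G) := by
    rw [jj_eq]
    refine sSup_le fun A hA => ?_
    by_contra hAc
    exact hcon A hA (FFOf.off_of_AA hm hA hAc)
  exact fun v hv => (mem_centralizer_iff.1 (hle hj) v hv).symm

/-- If `C_H(V) T = H` then `O²(H)` centralises `V`. -/
theorem oddGen_le_cent (hT : Syl T H) [Finite G]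
    (he : (H ⊓ centralizer (zl T H : Set G)) ⊔ T = H) :
    oddGen H ≤ centralizer (zl T H : Set G) := by
  refine (Cfsg.Agent.MinSimple.VModule.oddGen_le_of_sup (K := H ⊓ centralizer (zl T H : Set G))
    (S := T) ?_ he.ge hT.1 inf_le_left hT.2.1).trans inf_le_right
  exact fun g hg => mem_norm_of fun k hk => cent_norm g hg k hk

theorem zc_cent (hT : Syl T H) [Finite G] (he : (H ⊓ centralizer (zl T H : Set G)) ⊔ T = H) :
    oddGen H ≤ centralizer (zc T : Set G) :=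
  (oddGen_le_cent hT he).trans (centralizer_le fun z hz => zc_le_zl hz)

/-- **The Baumann input of an arbitrary minimal parabolic** `H` of characteristic 2 over `T` with
`J(T) ≰ O₂(H)` and `O²(H)` not centralising `Ω₁(Z(T))` (in the form `C_H(V) T ≠ H`, see `zc_cent`). -/
theorem of_stmt (hFF : FFThm.Stmt.{v}) [Finite G] (hT : Syl T H) (hP : IsMinPar T H)
    (hc : H ⊓ centralizer (o2 H : Set G) ≤ o2 H) (hJ : ¬ jj T ≤ o2 H)
    (hne : (H ⊓ centralizer (zl T H : Set G)) ⊔ T ≠ H) :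
    (∃ (ι : Type) (N A : ι → Subgroup G) (q : ℕ), Nonempty ι ∧
      BauK.InK H T (o2 H) (zl T H) (cv T H) N A q) ∨
    ∃ (ι : Type) (N : ι → Subgroup G) (d t r : ι → G), Nonempty ι ∧
      BauS.In H T (o2 H) (zl T H) N d t r ∧ BauS.PermR T (zl T H) d r := by
  have h0 := minH_of hT hP hc
  obtain ⟨A, hA, hoff⟩ := exists_off h0 hne hJ
  obtain ⟨hno, hcon⟩ := hFF G T H hT hP hc ⟨A, hA.2.1.trans hT.1, hoff⟩
  rcases hcon with ⟨F, i1, i2, i3, k, hk, ⟨M⟩⟩ | ⟨k, m, hk, hm, ⟨N⟩⟩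
  · left
    obtain ⟨N, E, h⟩ := exists_inK hT hP hc hJ hk M
    exact ⟨Fin k, N, E, Nat.card F, ⟨⟨0, hk⟩⟩, h⟩
  · right
    exact SymIn.main h0 hJ hno hk (by omega) N

end Cfsg.Agent.Omega.NO3b.FPB.OfStmt
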